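import Cfsg.Agent.Phan.Two.Four
import Cfsg.Agent.Phan.Three.Extend

/-!
# Two overlapping windows of four coordinates can be made to agree
-/

set_option autoImplicit false
set_option linter.unusedSectionVars false

namespace CfsgLib.Phan.Two

open CfsgLib.RepBounds.Unit Matrix

variable {F : Type*} [Field F] [Fintype F] {C : ConjField F} {G : Type*} [Group G] (hq : C.q = 2)
include hq

theorem ringHom_eq_of_omega {τ τ' : F →+* F} {w : F} (hsum : 1 + w + w * w = 0) (h : τ w = τ' w) :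
    τ = τ' := by
  refine RingHom.ext fun x => ?_
  rcases nm_cases hq x with rfl | hx
  · rw [map_zero, map_zero]
  · rw [nm, C.pow, hq, pow_two] at hx
    have : (x - 1) * ((x - w) * (x - w * w)) = 0 := by
      linear_combination hx + (-x * x + w * x + 1 - w) * hsum
    rcases mul_eq_zero.1 this with e | e
    · rw [sub_eq_zero.1 e, map_one, map_one]
    rcases mul_eq_zero.1 e with e | e
    · rw [sub_eq_zero.1 e, h]
    · rw [sub_eq_zero.1 e, map_mul, map_mul, h]

theorem hex_two : ∃ a : F, nm C a = 1 ∧ C.σ a ≠ a := by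
  obtain ⟨w, hw, hs, -, -, hw1⟩ := exists_omega hq
  refine ⟨w, hw, fun h => hw1 ?_⟩
  rw [hs] at h
  exact mul_right_cancel₀ (ne_zero_of_nm C hw) (by rw [one_mul]; exact h)

/-- An endomorphism of `SU_3` preserving both blocks restricts to diagonal semilinear maps. -/
theorem exists_ds_block {f : suG C (Fin 2) →* suG C (Fin 3)} (hf : Function.Injective f)
    {δ : suG C (Fin 3) →* suG C (Fin 3)} (hδ : Function.Injective δ)
    (h : (δ.comp f).range = f.range) :
    ∃ (τ : F →+* F) (c : F), nm C c = 1 ∧ ∀ a b (hab : nm C a + nm C b = 1),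
      ∃ h', δ (f (suTwo C a b hab)) = f (suTwo C (τ a) (c * τ b) h') := by
  obtain ⟨η, hη⟩ := Three.exists_aut C hf (β := δ.comp f) (hδ.comp hf) h
  obtain ⟨τ, c, hc, e⟩ := exists_diag_semilinear_aux C (hex_two hq) η fun a ha => by
    by_cases h1 : η (suTwo C a 0 ha) = 1
    · rw [h1, app_one]; simp [basv]
    · have ha' : nm C a = 1 := by rwa [nm_zero, add_zero] at ha
      obtain ⟨d, hd, -, he⟩ := torus_of_cube hq (y := η (suTwo C a 0 ha))
        (by rw [← map_mul, ← map_mul, torus_cube hq ha', map_one]) h1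
      rw [he, app_suTwo_zero]
      simp
  refine ⟨τ, c, hc, fun a b hab => ?_⟩
  have h' : nm C (τ a) + nm C (c * τ b) = 1 := by
    rw [nm_mul, hc, one_mul, nm_map, nm_map, ← map_add, hab, map_one]
  refine ⟨h', ?_⟩
  rw [← MonoidHom.comp_apply δ f, ← hη]
  exact congrArg f (eq_of_col hq (by rw [e, app_suTwo_zero]))

theorem dsHom_two {τ : F →+* F} {c : F} {d : Fin 2 → F} (hd : ∀ i, nm C (d i) = 1)
    (hdc : d 1 = d 0 * c) {a b : F} (hab : nm C a + nm C b = 1)
    (h' : nm C (τ a) + nm C (c * τ b) = 1) :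
    dsHom C τ d hd (suTwo C a b hab) = suTwo C (τ a) (c * τ b) h' := by
  refine eq_of_col hq ?_
  have hv : dsVec τ d (basv 2 0) = d 0 • basv 2 0 := by
    funext i; fin_cases i <;> simp [dsVec, basv]
  have e := app_dsHom C τ d hd (suTwo C a b hab) (basv 2 0)
  rw [hv, app_smul, app_suTwo_zero] at e
  rw [app_suTwo_zero]
  funext i
  refine mul_left_cancel₀ (ne_zero_of_nm C (hd 0)) ((congrFun e i).trans ?_)
  fin_cases i
  · rfl
  · show d 1 * τ b = d 0 * (c * τ b)
    rw [hdc, mul_assoc]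

/-- An automorphism of `SU_3` preserving both blocks is diagonal semilinear. -/
theorem exists_ds_three {δ : suG C (Fin 3) →* suG C (Fin 3)} (hδ : Function.Injective δ)
    (hu : (δ.comp (upB C)).range = (upB C).range) (hl : (δ.comp (loB C)).range = (loB C).range) :
    ∃ (τ : F →+* F) (c : Fin 3 → F) (hc : ∀ i, nm C (c i) = 1), δ = dsHom C τ c hc := by
  obtain ⟨τ, c₀, hc₀, e₀⟩ := exists_ds_block hq (upB_injective C) hδ hu
  obtain ⟨τ', c₁, hc₁, e₁⟩ := exists_ds_block hq (loB_injective C) hδ hl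
  obtain ⟨w, hw, -, hsum, -, -⟩ := exists_omega hq
  have h01 := nm_swap hq (nm_one C)
  have hττ : τ = τ' := by
    refine ringHom_eq_of_omega hq hsum ?_
    obtain ⟨p0, g0⟩ := e₀ w 0 (nm_torus C hw)
    obtain ⟨p1, g1⟩ := e₁ 0 1 h01
    obtain ⟨p2, g2⟩ := e₁ 0 (w * 1) (nm_smul_snd C hw h01)
    have e := congrArg δ (upB_torus_conj C hw h01)
    have ht : nm C (τ w) = 1 := by rw [nm_map, hw, map_one]
    rw [map_mul, map_mul, g0, g1, g2, suTwo_congr C p0 (nm_torus C ht) rfl (by rw [map_zero, mul_zero]),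
      upB_torus_conj C ht p1, mul_left_inj] at e
    have e' := (suTwo_inj C (loB_injective C e)).2
    rw [map_one, mul_one, mul_one, mul_comm c₁] at e'
    exact mul_right_cancel₀ (ne_zero_of_nm C hc₁) e'
  subst hττ
  have hd : ∀ i, nm C ((![1, c₀, c₀ * c₁] : Fin 3 → F) i) = 1 := by
    intro i; fin_cases i <;> simp [nm_one, nm_mul, hc₀, hc₁]
  refine ⟨τ, _, hd, ?_⟩
  let θ := MulEquiv.ofBijective _ (dsHom_bijective C τ _ hd)
  have hθ : ∀ x, θ x = dsHom C τ _ hd x := fun _ => rfl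
  have h02 : 0 + 2 ≤ 3 := by omega
  have h12 : 1 + 2 ≤ 3 := by omega
  have hU : ∀ l, dsHom C τ _ hd (upB C l) = δ (upB C l) := fun l => by
    obtain ⟨hl', el⟩ := eq_suTwo C l
    rw [el]
    obtain ⟨p, ep⟩ := e₀ _ _ hl'
    rw [ep, upB, wext, dsHom_ext,
      dsHom_two hq (τ := τ) (c := c₀) (d := (![1, c₀, c₀ * c₁] : Fin 3 → F) ∘ win 3 0 2 h02) (fun i => hd _)
        (show c₀ = 1 * c₀ by rw [one_mul]) hl' p]
  have hL : ∀ l, dsHom C τ _ hd (loB C l) = δ (loB C l) := fun l => by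
    obtain ⟨hl', el⟩ := eq_suTwo C l
    rw [el]
    obtain ⟨p, ep⟩ := e₁ _ _ hl'
    rw [ep, loB, wext, dsHom_ext,
      dsHom_two hq (τ := τ) (c := c₁) (d := (![1, c₀, c₀ * c₁] : Fin 3 → F) ∘ win 3 1 2 h12) (fun i => hd _)
        rfl hl' p]
  refine MonoidHom.ext fun g => ?_
  have := rigid hq (δ := θ.symm.toMonoidHom.comp δ)
    (fun l => by rw [MonoidHom.comp_apply, ← hU]; exact θ.symm_apply_apply _)
    (fun l => by rw [MonoidHom.comp_apply, ← hL]; exact θ.symm_apply_apply _) g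
  rw [← hθ]
  exact θ.symm_apply_eq.1 this

/-- The next window can be adjusted to extend the previous one. -/
theorem exists_compat {Φ Φ' : suG C (Fin 4) →* G} (hΦ : Function.Injective Φ)
    (hΦ' : Function.Injective Φ') (hV : (Φ.comp w1).range = (Φ'.comp w0).range)
    (hA : ((Φ.comp w1).comp (upB C)).range = ((Φ'.comp w0).comp (upB C)).range)
    (hB : ((Φ.comp w1).comp (loB C)).range = ((Φ'.comp w0).comp (loB C)).range) :
    ∃ Φ'' : suG C (Fin 4) →* G, Function.Injective Φ'' ∧ (∀ g, Φ'' (w0 g) = Φ (w1 g)) ∧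
      (Φ''.comp w1).range = (Φ'.comp w1).range ∧
      ((Φ''.comp w1).comp (loB C)).range = ((Φ'.comp w1).comp (loB C)).range := by
  have hi : Function.Injective (Φ'.comp w0) := hΦ'.comp w0_injective
  obtain ⟨δ, hδ⟩ := exists_lift hi (Φ.comp w1) hV.le
  have hδi : Function.Injective δ := fun a b e => w1_injective (hΦ (by
    show Φ.comp w1 a = Φ.comp w1 b
    simp only [← hδ, MonoidHom.comp_apply, e]))
  obtain ⟨τ, c, hc, e⟩ := exists_ds_three hq hδi
    (by rwa [← range_comp_eq hi, ← MonoidHom.comp_assoc, hδ])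
    (by rwa [← range_comp_eq hi, ← MonoidHom.comp_assoc, hδ])
  have hd : ∀ i, nm C ((![c 0, c 1, c 2, 1] : Fin 4 → F) i) = 1 := by
    intro i; fin_cases i <;> simp [nm_one, hc]
  set θ := dsHom C τ ![c 0, c 1, c 2, 1] hd with hθ
  have hd1 : ∀ i, nm C ((![c 1, c 2, 1] : Fin 3 → F) i) = 1 := by
    intro i; fin_cases i <;> simp [nm_one, hc]
  have h0 : ∀ g, θ (w0 g) = w0 (δ g) := fun g => by
    rw [hθ, w0, wext, dsHom_ext, e]
    congr 3
    funext j; fin_cases j <;> rfl
  have h1 : ∀ g, θ (w1 g) = w1 (dsHom C τ ![c 1, c 2, 1] hd1 g) := fun g => by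
    rw [hθ, w1, wext, dsHom_ext]
    congr 3
    funext j; fin_cases j <;> rfl
  refine ⟨Φ'.comp θ, hΦ'.comp (dsHom_bijective C _ _ _).1, fun g => ?_, ?_, ?_⟩
  · rw [MonoidHom.comp_apply, h0]
    exact DFunLike.congr_fun hδ g
  · rw [show (Φ'.comp θ).comp w1 = (Φ'.comp w1).comp (dsHom C τ ![c 1, c 2, 1] hd1) from
      MonoidHom.ext fun g => congrArg Φ' (h1 g), MonoidHom.range_comp,
      MonoidHom.range_eq_top.2 (dsHom_bijective C _ _ _).2, ← MonoidHom.range_eq_map]
  · rw [show ((Φ'.comp θ).comp w1).comp (loB C) = ((Φ'.comp w1).comp (loB C)).comp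
        (dsHom C τ ((![c 1, c 2, 1] : Fin 3 → F) ∘ win 3 1 2 (by omega)) fun i => hd1 _) from
      MonoidHom.ext fun g => by
        show Φ' (θ (w1 (loB C g))) = Φ' (w1 (loB C _))
        rw [h1, loB, wext, dsHom_ext],
      MonoidHom.range_comp, MonoidHom.range_eq_top.2 (dsHom_bijective C _ _ _).2, ← MonoidHom.range_eq_map]

end CfsgLib.Phan.Two
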