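import Cfsg.Agent.Phan.Two.Chain
import Cfsg.Agent.Phan.Two.Compat
import Cfsg.Agent.Forms4.UnitarySimple
import Cfsg.Prelude.Def_PhanSystems

/-!
# Weak Phan systems over four elements
-/

set_option autoImplicit false
set_option linter.unusedSectionVars false

namespace CfsgLib.Phan.Two

open CfsgLib.RepBounds.Unit Matrix

variable {F : Type*} [Field F] [Fintype F] {C : ConjField F} {G : Type*} [Group G]

/-- The identification with `SU_4`. -/
noncomputable def toSUFour (C : ConjField F) : suG C (Fin 4) →* Cfsg.SU 4 F C.q :=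
  (MulEquiv.subgroupCongr (suG_fin_eq C 4)).toMonoidHom

theorem toSUFour_surjective (C : ConjField F) : Function.Surjective (toSUFour C) :=
  (MulEquiv.subgroupCongr (suG_fin_eq C 4)).surjective

theorem w1_upB (g : suG C (Fin 2)) : w1 (upB C g) = w0 (loB C g) := by
  rw [w0, w1, loB, upB, wext_wext, wext_wext]

section two

variable (hq : C.q = 2)
include hq

/-- The centre of `SU_4` over four elements is trivial. -/
theorem central_eq_one {k : suG C (Fin 4)} (hk : ∀ g, Commute g k) : k = 1 := by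
  obtain ⟨a, ha, hne⟩ := hex_two hq
  have ha1 : a ≠ 1 := fun e => hne (by rw [e, map_one])
  have ha1' : C.σ a ≠ 1 := fun e => ha1 (C.σ.injective (by rw [e, map_one]))
  have hc : ∀ g x, app C g x = x → app C g (app C k x) = app C k x := fun g x hx => by
    rw [← app_mul, (hk g).eq, app_mul, hx]
  set v := app C k (basv 4 0) with hv
  have e1 := hc (Three.B1 C (suTwo C a 0 (nm_torus C ha))) (basv 4 0) (by
    rw [Three.app_B1, app_suTwo]; funext i; fin_cases i <;> simp [basv])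
  have e2 := hc (Three.B2 C (suTwo C a 0 (nm_torus C ha))) (basv 4 0) (by
    rw [Three.app_B2, app_suTwo]; funext i; fin_cases i <;> simp [basv])
  rw [Three.app_B1, app_suTwo] at e1
  rw [Three.app_B2, app_suTwo] at e2
  have f1 := congrFun e1 1
  have f2 := congrFun e1 2
  have f3 := congrFun e2 3
  simp at f1 f2 f3
  have v1 : v 1 = 0 := (mul_eq_zero.1 (show (a - 1) * v 1 = 0 by linear_combination f1)).resolve_left
    (sub_ne_zero.2 ha1)
  have v2 : v 2 = 0 := (mul_eq_zero.1 (show (C.σ a - 1) * v 2 = 0 by linear_combination f2)).resolve_left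
    (sub_ne_zero.2 ha1')
  have v3 : v 3 = 0 := (mul_eq_zero.1 (show (C.σ a - 1) * v 3 = 0 by linear_combination f3)).resolve_left
    (sub_ne_zero.2 ha1')
  have h0 : v = v 0 • basv 4 0 := by
    funext i; fin_cases i <;> simp [basv, v1, v2, v3]
  have htr : ∀ (g : suG C (Fin 4)) (x y : Fin 4 → F), app C g x = y → app C k x = v 0 • x →
      app C k y = v 0 • y := fun g x y hxy hx => by
    rw [← hxy, ← app_mul, ← (hk g).eq, app_mul, hx, app_smul]
  have hn := nm_zero_one hq (C := C)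
  have h1 := htr (Three.B0 C (suTwo C 0 1 hn)) _ (basv 4 1) (by
    rw [Three.app_B0, app_suTwo]; funext i; fin_cases i <;> simp [basv]) h0
  have h2 := htr (Three.B1 C (suTwo C 0 1 hn)) _ (basv 4 2) (by
    rw [Three.app_B1, app_suTwo]; funext i; fin_cases i <;> simp [basv]) h1
  have h3 := htr (Three.B2 C (suTwo C 0 1 hn)) _ (basv 4 3) (by
    rw [Three.app_B2, app_suTwo]; funext i; fin_cases i <;> simp [basv]) h2
  have hu : herm C (basv 4 0 : Fin 4 → F) (basv 4 0) = 1 := herm_basv_self C (by omega)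
  have hn1 := nm_of_unit_smul C (by rw [herm_app]; exact hu) hu h0
  rw [nm, C.pow, hq, pow_two] at hn1
  have hall : ∀ j : Fin 4, app C k (basv 4 j) = v 0 • basv 4 j := by
    intro j
    fin_cases j
    exacts [h0, h1, h2, h3]
  have hM : k.1.1 = v 0 • (1 : Matrix (Fin 4) (Fin 4) F) := by
    ext i j
    have hb : (basv 4 j : Fin 4 → F) = Pi.single j 1 := by
      funext l; simp [basv, Pi.single_apply, Fin.ext_iff]
    have := congrFun (hall j) i
    rw [hb, app, Matrix.mulVec_single_one] at this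
    simpa [Matrix.one_apply, Pi.single_apply] using this
  have hd := k.1.2
  rw [hM, Matrix.det_smul, Matrix.det_one, mul_one, Fintype.card_fin] at hd
  have hl : v 0 = 1 := by linear_combination hd - v 0 * hn1
  refine Subtype.ext (Subtype.ext ?_)
  rw [hM, hl, one_smul]
  rfl

/-- A non-trivial map of `SU_4` over four elements is injective. -/
theorem injective_four (π : suG C (Fin 4) →* G) (h : ∃ g, π g ≠ 1) : Function.Injective π := by
  let R := reindexHom C (finSumFinEquiv : Fin 2 ⊕ Fin 2 ≃ Fin 4)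
  let R' := reindexHom C (finSumFinEquiv : Fin 2 ⊕ Fin 2 ≃ Fin 4).symm
  have hR : ∀ g, R (R' g) = g := fun g => suG_ext C fun x => by
    rw [app_reindexHom, app_reindexHom]; simp [Function.comp_def]
  refine (injective_iff_map_eq_one π).2 fun k hk => ?_
  refine central_eq_one hq fun g => ?_
  rcases CfsgLib.Forms4.suG_normal_eq_top_or_le_center C (by simp) (π.ker.comap R) with hN | hN
  · obtain ⟨g0, hg0⟩ := h
    refine absurd ?_ hg0
    have : R' g0 ∈ π.ker.comap R := hN ▸ Subgroup.mem_top _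
    rwa [Subgroup.mem_comap, hR, MonoidHom.mem_ker] at this
  · have : R' k ∈ Subgroup.center _ := hN (by rwa [Subgroup.mem_comap, hR, MonoidHom.mem_ker])
    have e := congrArg R (Subgroup.mem_center_iff.1 this (R' g))
    rw [map_mul, map_mul, hR, hR] at e
    exact e

/-- A window of two pairs is a copy of `SU_4`. -/
theorem exists_window {A B D : Subgroup G} {V V' : Subgroup G}
    (hp : Cfsg.IsStandardUnitaryPair V A B F C.q) (hp' : Cfsg.IsStandardUnitaryPair V' B D F C.q)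
    (eA : suG C (Fin 2) ≃* A) (eB : suG C (Fin 2) ≃* B) (eD : suG C (Fin 2) ≃* D)
    (hc : ∀ u ∈ A, ∀ v ∈ D, Commute u v)
    (h4 : ∃ g : ↥(Cfsg.SU 4 F C.q) →* ↥(V ⊔ V'), Function.Surjective g) :
    ∃ φ : suG C (Fin 4) →* G, Function.Injective φ ∧ (φ.comp w0).range = V ∧ (φ.comp w1).range = V' ∧
      ((φ.comp w0).comp (upB C)).range = A ∧ ((φ.comp w0).comp (loB C)).range = B ∧
      ((φ.comp w1).comp (loB C)).range = D := by
  obtain ⟨ψ, hψ, rfl, hi⟩ := exists_pair_two hq hp eA eB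
  obtain ⟨ψ', hψ', rfl, hi'⟩ := exists_pair_two hq hp' eB eD
  obtain ⟨hinj, hinj'⟩ := injective_of_window hq hψ hψ' hi hi' hc
  obtain ⟨g, hg⟩ := h4
  set π : suG C (Fin 4) →* G := (ψ.range ⊔ ψ'.range).subtype.comp (g.comp (toSUFour C)) with hπ
  have hπr : π.range = ψ.range ⊔ ψ'.range := by
    have hs : Function.Surjective (g.comp (toSUFour C)) := by
      rw [MonoidHom.coe_comp]; exact hg.comp (toSUFour_surjective C)
    rw [hπ, MonoidHom.range_comp, MonoidHom.range_eq_top.2 hs, ← MonoidHom.range_eq_map,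
      Subgroup.range_subtype]
  have hπi : Function.Injective π := by
    refine injective_four hq π ?_
    obtain ⟨w, hw, -, -, -, hw1⟩ := exists_omega hq
    obtain ⟨y, hy⟩ : ψ (upB C (suTwo C w 0 (nm_torus C hw))) ∈ π.range :=
      hπr ▸ Subgroup.mem_sup_left ⟨_, rfl⟩
    exact ⟨y, fun e => torus_ne_one hq hw hw1
      (hψ.inj_up ((hy.symm.trans e).trans (map_one _).symm))⟩
  exact exists_four_two hq hπi hψ hψ' hinj hinj' hπr.symm hc

end two

/-- Recognition from a weak Phan system over four elements. -/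
theorem exists_surjective {q : ℕ} (hq2 : q = 2) (n : ℕ) (hn : 4 ≤ n) (hF : Fintype.card F = q ^ 2)
    (U : Fin n → Subgroup G) (e : ∀ i, ↥(Cfsg.SU 2 F q) ≃* ↥(U i))
    (V : Fin n → Fin n → Subgroup G)
    (h1 : ∀ i j : Fin n, (i : ℕ) + 2 ≤ j → ∀ x ∈ U i, ∀ y ∈ U j, x * y = y * x)
    (h2 : ∀ i j : Fin n, (i : ℕ) + 1 = j → Cfsg.IsStandardUnitaryPair (V i j) (U i) (U j) F q)
    (hgen : (⨆ i, U i) ⊔ (⨆ (i : Fin n) (j : Fin n) (_ : (i : ℕ) + 1 = j), V i j) = ⊤)
    (h4 : ∀ i j k : Fin n, (i : ℕ) + 1 = j → (j : ℕ) + 1 = k →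
      ∃ g : ↥(Cfsg.SU 4 F q) →* ↥(V i j ⊔ V j k), Function.Surjective g)
    (h5 : ∀ i j k : Fin n, (j : ℕ) + 1 = k → ((i : ℕ) + 2 ≤ j ∨ (k : ℕ) + 2 ≤ i) →
      ∀ x ∈ U i, ∀ y ∈ V j k, x * y = y * x)
    (h6 : ∀ i j k l : Fin n, (i : ℕ) + 1 = j → (k : ℕ) + 1 = l → (j : ℕ) + 2 ≤ k →
      ∀ x ∈ V i j, ∀ y ∈ V k l, x * y = y * x) :
    ∃ f : ↥(Cfsg.SU (n + 1) F q) →* G, Function.Surjective f := by
  classical
  obtain ⟨C, rfl⟩ := CfsgLib.RepBounds.Unit.exists_conjField q hF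
  have hq : C.q = 2 := hq2
  let e' : ∀ i, suG C (Fin 2) ≃* U i := fun i =>
    (MulEquiv.subgroupCongr (suG_fin_eq C 2)).trans (e i)
  let U' : ℕ → Subgroup G := fun i => if h : i < n then U ⟨i, h⟩ else ⊥
  let V' : ℕ → Subgroup G := fun i => if h : i + 1 < n then V ⟨i, by omega⟩ ⟨i + 1, h⟩ else ⊥
  have hU' : ∀ i (h : i < n), U' i = U ⟨i, h⟩ := fun i h => dif_pos h
  have hV' : ∀ i (h : i + 1 < n), V' i = V ⟨i, by omega⟩ ⟨i + 1, h⟩ := fun i h => dif_pos h
  let Good : ℕ → (suG C (Fin 4) →* G) → Prop := fun i Φ =>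
    Function.Injective Φ ∧ (Φ.comp w0).range = V' i ∧ (Φ.comp w1).range = V' (i + 1) ∧
      ((Φ.comp w0).comp (upB C)).range = U' i ∧ ((Φ.comp w0).comp (loB C)).range = U' (i + 1) ∧
      ((Φ.comp w1).comp (loB C)).range = U' (i + 2)
  have hwin : ∀ i, i + 3 ≤ n → ∃ φ, Good i φ := by
    intro i hi
    obtain ⟨φ, hφ⟩ := exists_window hq (h2 ⟨i, by omega⟩ ⟨i + 1, by omega⟩ rfl)
      (h2 ⟨i + 1, by omega⟩ ⟨i + 2, by omega⟩ rfl) (e' _) (e' _) (e' _)
      (fun u hu v hv => h1 _ _ (by simp) u hu v hv) (h4 _ _ _ rfl rfl)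
    refine ⟨φ, ?_⟩
    simp only [Good]
    rw [hV' i (by omega), hV' (i + 1) (by omega), hU' i (by omega), hU' (i + 1) (by omega),
      hU' (i + 2) (by omega)]
    exact hφ
  have step : ∀ i Φ, ∃ Φ', Good i Φ → i + 4 ≤ n →
      Good (i + 1) Φ' ∧ ∀ g, Φ' (w0 g) = Φ (w1 g) := by
    intro i Φ
    by_cases h : Good i Φ ∧ i + 4 ≤ n
    swap
    · exact ⟨1, fun a b => absurd ⟨a, b⟩ h⟩
    obtain ⟨⟨g1, -, g3, -, g5, g6⟩, hi⟩ := h
    obtain ⟨φ', k1, k2, k3, k4, k5, k6⟩ := hwin (i + 1) (by omega)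
    have hup : ((Φ.comp w1).comp (upB C)).range = U' (i + 1) := by
      rw [← g5]; congr 1; exact MonoidHom.ext fun g => congrArg Φ (w1_upB g)
    obtain ⟨Φ', a1, a2, a3, a4⟩ := exists_compat hq g1 k1 (g3.trans k2.symm) (hup.trans k4.symm)
      (g6.trans k5.symm)
    have ha : Φ'.comp w0 = Φ.comp w1 := MonoidHom.ext a2
    exact ⟨Φ', fun _ _ => ⟨⟨a1, by rw [ha, g3], a3.trans k3, by rw [ha, hup], by rw [ha, g6],
      a4.trans k6⟩, a2⟩⟩
  choose nxt hnxt using step
  obtain ⟨φ₀, hφ₀⟩ := hwin 0 (by omega)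
  let Φ : ℕ → (suG C (Fin 4) →* G) := fun i => Nat.rec φ₀ nxt i
  have hΦ : ∀ i, i + 3 ≤ n → Good i (Φ i) := by
    intro i
    induction i with
    | zero => exact fun _ => hφ₀
    | succ j ih => exact fun h => (hnxt j (Φ j) (ih (by omega)) (by omega)).1
  have hΦ' : ∀ i, i + 4 ≤ n → ∀ g, Φ (i + 1) (w0 g) = Φ i (w1 g) := fun i hi =>
    (hnxt i (Φ i) (hΦ i (by omega)) hi).2
  let ψ : ℕ → suG C (Fin 3) →* G := fun i =>
    if i + 3 ≤ n then (Φ i).comp w0 else (Φ (i - 1)).comp w1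
  have hψ : ∀ i, i + 2 ≤ n → (ψ i).range = V' i ∧ ((ψ i).comp (upB C)).range = U' i ∧
      ((ψ i).comp (loB C)).range = U' (i + 1) := by
    intro i hi
    by_cases h : i + 3 ≤ n
    · obtain ⟨-, g2, -, g4, g5, -⟩ := hΦ i h
      simp only [ψ, if_pos h]
      exact ⟨g2, g4, g5⟩
    · obtain ⟨j, rfl⟩ : ∃ j, i = j + 1 := ⟨i - 1, by omega⟩
      obtain ⟨-, -, g3, -, g5, g6⟩ := hΦ j (by omega)
      simp only [ψ, if_neg h, Nat.add_sub_cancel]
      refine ⟨g3, ?_, g6⟩
      rw [← g5]; congr 1; exact MonoidHom.ext fun g => congrArg (Φ j) (w1_upB g)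
  have hUmem : ∀ i, i + 2 ≤ n → ∀ g, ψ i (upB C g) ∈ U' i := fun i hi g =>
    (hψ i hi).2.1 ▸ ⟨g, rfl⟩
  have hUmem' : ∀ i, i + 2 ≤ n → ∀ g, ψ i (loB C g) ∈ U' (i + 1) := fun i hi g =>
    (hψ i hi).2.2 ▸ ⟨g, rfl⟩
  have hVmem : ∀ i, i + 2 ≤ n → ∀ x, ψ i x ∈ V' i := fun i hi x => (hψ i hi).1 ▸ ⟨x, rfl⟩
  obtain ⟨f, hf⟩ := exists_chain_hom_two hq (n + 1) (by omega) ψ Φ
    (fun i hi g => by
      refine ⟨by simp only [ψ, if_pos (show i + 3 ≤ n by omega)]; rfl, ?_⟩
      by_cases h : i + 1 + 3 ≤ n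
      · simp only [ψ, if_pos h, MonoidHom.comp_apply]
        exact (hΦ' i (by omega) g).symm
      · simp only [ψ, if_neg h, Nat.add_sub_cancel]
        rfl)
    (fun i j hij hj g x => by
      have hx := hUmem i (by omega) g
      have hy := hVmem j (by omega) x
      rw [hU' i (by omega)] at hx
      rw [hV' j (by omega)] at hy
      exact h5 _ _ _ rfl (Or.inl (by simpa using hij)) _ hx _ hy)
    (fun i j hij hj g x => by
      have hx := hUmem' j (by omega) g
      have hy := hVmem i (by omega) x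
      rw [hU' (j + 1) (by omega)] at hx
      rw [hV' i (by omega)] at hy
      exact (h5 _ _ _ rfl (Or.inr (by simp; omega)) _ hx _ hy).symm)
    (fun i j hij hj x y => by
      have hx := hVmem i (by omega) x
      have hy := hVmem j (by omega) y
      rw [hV' i (by omega)] at hx
      rw [hV' j (by omega)] at hy
      exact h6 _ _ _ _ rfl rfl (by simp; omega) _ hx _ hy)
  have hfV : ∀ i, i + 2 ≤ n → (ψ i).range ≤ f.range := by
    rintro i hi _ ⟨g, rfl⟩
    exact ⟨wext C i (by omega) g, hf i (by omega) g⟩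
  refine ⟨f.comp (MulEquiv.subgroupCongr (suG_fin_eq C (n + 1))).symm.toMonoidHom, ?_⟩
  refine Function.Surjective.comp (g := f) (MonoidHom.range_eq_top.1 ?_) (MulEquiv.surjective _)
  rw [eq_top_iff, ← hgen]
  refine sup_le (iSup_le fun i => ?_) (iSup_le fun i => iSup_le fun j => iSup_le fun hij => ?_)
  · rw [← hU' i i.2]
    by_cases h : (i : ℕ) + 2 ≤ n
    · rw [← (hψ i h).2.1]
      exact le_trans (by rintro _ ⟨g, rfl⟩; exact ⟨_, rfl⟩) (hfV i h)
    · obtain ⟨j, hj⟩ : ∃ j, (i : ℕ) = j + 1 := ⟨i - 1, by omega⟩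
      rw [hj, ← (hψ j (by omega)).2.2]
      exact le_trans (by rintro _ ⟨g, rfl⟩; exact ⟨_, rfl⟩) (hfV j (by omega))
  · refine le_trans (le_of_eq ?_) (hfV i (by omega))
    rw [(hψ i (by omega)).1, hV' i (by omega)]
    exact congrArg₂ V rfl (Fin.ext hij.symm)

end CfsgLib.Phan.Two
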