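import Cfsg.Agent.Phan.Cover

/-!
# Special unitary groups over four elements: transitivity and generation
-/

set_option autoImplicit false
set_option linter.unusedSectionVars false

namespace CfsgLib.Phan.Two

open CfsgLib.RepBounds.Unit Matrix

variable {F : Type*} [Field F] [Fintype F] {C : ConjField F} (hq : C.q = 2)
include hq

theorem two_eq_zero : (2 : F) = 0 := by
  obtain ⟨p, hchar⟩ := CharP.exists F
  haveI : Fact p.Prime := ⟨CharP.char_is_prime F p⟩
  have h4 : p ∣ 2 ^ 2 := (CharP.cast_eq_zero_iff F p _).1 (by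
    rw [show 2 ^ 2 = Fintype.card F by rw [C.card, hq]]; exact Nat.cast_card_eq_zero F)
  have hp : p = 2 := (Nat.prime_dvd_prime_iff_eq Fact.out Nat.prime_two).1
    ((Fact.out : p.Prime).dvd_of_dvd_pow h4)
  have := (CharP.cast_eq_zero_iff F p 2).2 (by rw [hp])
  exact_mod_cast this

theorem nm_cases (x : F) : x = 0 ∨ nm C x = 1 := by
  rcases eq_or_ne x 0 with h | h
  · exact Or.inl h
  · right
    have := FiniteField.pow_card_sub_one_eq_one x h
    rw [C.card, hq] at this
    rw [nm, C.pow, hq, ← this]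
    ring

theorem nm_eq_one {x : F} (h : x ≠ 0) : nm C x = 1 := (nm_cases hq x).resolve_left h

/-- Adjacency is orthogonality. -/
theorem adj_iff {ι : Type*} [Fintype ι] {u v : ι → F} : Adj C u v ↔ herm C u v = 0 := by
  refine ⟨fun h => ?_, adj_of_perp C⟩
  by_contra h0
  exact h (nm_eq_one hq h0)

theorem exists_omega : ∃ w : F, nm C w = 1 ∧ C.σ w = w * w ∧ 1 + w + w * w = 0 ∧ w * (w * w) = 1 ∧
    w ≠ 1 := by
  obtain ⟨w, hw⟩ : ∃ w, C.σ w ≠ w := by
    by_contra! h
    exact C.ne_id (RingHom.ext h)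
  have hw0 : w ≠ 0 := fun e => hw (by rw [e, map_zero])
  have hw1 : w ≠ 1 := fun e => hw (by rw [e, map_one])
  have hn := nm_eq_one hq hw0
  have hs : C.σ w = w * w := by rw [C.pow, hq, pow_two]
  have h3 : w * (w * w) = 1 := by rw [← hs]; exact hn
  refine ⟨w, hn, hs, ?_, h3, hw1⟩
  exact (mul_eq_zero.1 (show (w - 1) * (1 + w + w * w) = 0 by linear_combination h3)).resolve_left
    (sub_ne_zero.2 hw1)

/-- A non-monomial element of `SU_3` with prescribed first column. -/
theorem exists_full_app {a b c w : F} (ha : nm C a = 1) (hb : nm C b = 1) (hc : nm C c = 1)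
    (hs : C.σ w = w * w) (hsum : 1 + w + w * w = 0) (h3 : w * (w * w) = 1) :
    ∃ g : suG C (Fin 3), ∀ x : Fin 3 → F, app C g x =
      ![a * (x 0 + x 1 + C.σ (a * b * c) * x 2),
        b * (x 0 + w * x 1 + w * w * (C.σ (a * b * c) * x 2)),
        c * (x 0 + w * w * x 1 + w * (C.σ (a * b * c) * x 2))] := by
  have h2 := two_eq_zero hq
  set d := C.σ (a * b * c) with hd
  have hdn : nm C d = 1 := by rw [hd, nm_conj, nm_mul, nm_mul, ha, hb, hc, one_mul, one_mul]
  have hdd : a * b * c * d = 1 := by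
    rw [hd]; show nm C (a * b * c) = 1
    rw [nm_mul, nm_mul, ha, hb, hc, one_mul, one_mul]
  have hsw : C.σ (w * w) = w := by rw [map_mul, hs]; linear_combination w * h3
  let M : Matrix (Fin 3) (Fin 3) F :=
    !![a, a, d * a; b, b * w, d * (b * (w * w)); c, c * (w * w), d * (c * w)]
  have hdet : M.det = 1 := by
    rw [Matrix.det_fin_three]
    simp [M]
    grind
  have hV : ∀ x y : Fin 3 → F, herm C (M *ᵥ x) (M *ᵥ y) = herm C x y := by
    intro x y
    simp only [nm] at ha hb hc hdn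
    simp [M, herm, Matrix.mulVec, dotProduct, Fin.sum_univ_three, hs]
    grind
  refine ⟨⟨⟨M, hdet⟩, hV⟩, fun x => ?_⟩
  funext i
  fin_cases i <;> simp [app, M, Matrix.mulVec, dotProduct, Fin.sum_univ_three, hd] <;> ring

theorem exists_full {a b c : F} (ha : nm C a = 1) (hb : nm C b = 1) (hc : nm C c = 1) :
    ∃ g : suG C (Fin 3), app C g (basv 3 0) = ![a, b, c] := by
  obtain ⟨w, -, hs, hsum, h3, -⟩ := exists_omega hq
  obtain ⟨g, hg⟩ := exists_full_app hq ha hb hc hs hsum h3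
  exact ⟨g, by rw [hg]; funext i; fin_cases i <;> simp [basv]⟩

theorem exists_unit_perp_iso {k : ℕ} (hk : 3 ≤ k) {v : Fin k → F} :
    ∃ x : Fin k → F, herm C x x = 1 ∧ herm C x v = 0 := by
  have hb : ∀ i, i < k → ∀ y : Fin k → F, ∀ hi : i < k, herm C (basv k i) y = C.σ (y ⟨i, hi⟩) :=
    fun i _ y hi => by rw [← conj_herm, herm_basv_right C y hi]
  by_cases h : ∃ i : Fin k, v i = 0
  · obtain ⟨i, hi⟩ := h
    exact ⟨basv k i, herm_basv_self C i.2, by rw [hb i i.2 v i.2, hi, map_zero]⟩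
  push Not at h
  obtain ⟨w, hw, -, hsum, -, -⟩ := exists_omega hq
  have h2 := two_eq_zero hq
  set v0 := v ⟨0, by omega⟩
  set v1 := v ⟨1, by omega⟩
  set v2 := v ⟨2, by omega⟩
  refine ⟨v0 • basv k 0 + (w * v1) • basv k 1 + ((w * w) * v2) • basv k 2, ?_, ?_⟩
  · simp only [herm_add_left, herm_add_right, herm_smul_left, herm_smul_right,
      herm_basv_self C (show 0 < k by omega), herm_basv_self C (show 1 < k by omega),
      herm_basv_self C (show 2 < k by omega), herm_basv_ne C (show 1 < k by omega) (show (0 : ℕ) ≠ 1 by omega),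
      herm_basv_ne C (show 2 < k by omega) (show (0 : ℕ) ≠ 2 by omega),
      herm_basv_ne C (show 0 < k by omega) (show (1 : ℕ) ≠ 0 by omega),
      herm_basv_ne C (show 2 < k by omega) (show (1 : ℕ) ≠ 2 by omega),
      herm_basv_ne C (show 0 < k by omega) (show (2 : ℕ) ≠ 0 by omega),
      herm_basv_ne C (show 1 < k by omega) (show (2 : ℕ) ≠ 1 by omega)]
    have e0 : v0 * C.σ v0 = 1 := nm_eq_one hq (h _)
    have e1 : w * v1 * C.σ (w * v1) = 1 := by
      show nm C (w * v1) = 1; rw [nm_mul, hw, nm_eq_one hq (h _), one_mul]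
    have e2 : w * w * v2 * C.σ (w * w * v2) = 1 := by
      show nm C (w * w * v2) = 1; rw [nm_mul, nm_mul, hw, nm_eq_one hq (h _), one_mul, one_mul]
    linear_combination e0 + e1 + e2 + h2
  · simp only [herm_add_left, herm_smul_left, hb 0 (by omega) v (by omega), hb 1 (by omega) v (by omega),
      hb 2 (by omega) v (by omega)]
    have e0 : v0 * C.σ v0 = 1 := nm_eq_one hq (h _)
    have e1 : v1 * C.σ v1 = 1 := nm_eq_one hq (h _)
    have e2 : v2 * C.σ v2 = 1 := nm_eq_one hq (h _)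
    linear_combination e0 + w * e1 + w * w * e2 + hsum

theorem nm_zero_one : nm C (0 : F) + nm C 1 = 1 := by rw [nm_zero, zero_add, nm_one]

/-- A vector with vanishing first coordinate is reached through the tail and the first block. -/
theorem reach_tail {k : ℕ} (hk : 2 ≤ k)
    (htail : ∀ v : Fin k → F, herm C v v = 1 → ∃ g : suG C (Fin k), app C g (basv k 0) = v)
    {v : Fin (k + 1) → F} (hv : herm C v v = 1) (h0 : v 0 = 0) :
    ∃ y, app C (wext C 1 (by omega : 1 + k ≤ k + 1) y *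
      wext C 0 (by omega : 0 + 2 ≤ k + 1) (suTwo C 0 1 (nm_zero_one hq))) (basv (k + 1) 0) = v := by
  have h1k : 1 + k ≤ k + 1 := by omega
  have hdec : v = extVec (win (k + 1) 1 k h1k) (v ∘ win (k + 1) 1 k h1k) :=
    eq_extVec h1k v fun i hi => by rw [show i = 0 from Fin.ext (show (i : ℕ) = 0 by omega), h0]
  obtain ⟨y, hy⟩ := htail (v ∘ win (k + 1) 1 k h1k)
    (by rw [← herm_extVec C (win (k + 1) 1 k h1k), ← hdec]; exact hv)
  refine ⟨y, ?_⟩
  rw [app_mul, show (basv (k + 1) 0 : Fin (k + 1) → F) = basv _ (0 + 0) by rfl,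
    wext_basv C _ (by omega), app_suTwo_zero]
  have : extVec (win (k + 1) 0 2 (by omega)) (![0, 1] : Fin 2 → F) = basv (k + 1) (1 + 0) := by
    rw [show (![0, 1] : Fin 2 → F) = basv 2 1 by funext i; fin_cases i <;> simp [basv],
      extVec_basv _ (by omega)]
  rw [this, wext_basv C h1k (by omega), hy, ← hdec]

/-- A subgroup containing the tail and the first block is transitive. -/
theorem reach {k : ℕ} (hk : 3 ≤ k)
    (htail : ∀ v : Fin k → F, herm C v v = 1 → ∃ g : suG C (Fin k), app C g (basv k 0) = v)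
    (K : Subgroup (suG C (Fin (k + 1)))) (hy : ∀ y, wext C 1 (by omega : 1 + k ≤ k + 1) y ∈ K)
    (hl : ∀ l, wext C 0 (by omega : 0 + 2 ≤ k + 1) l ∈ K) {v : Fin (k + 1) → F}
    (hv : herm C v v = 1) : ∃ g ∈ K, app C g (basv (k + 1) 0) = v := by
  have hzero : ∀ v : Fin (k + 1) → F, herm C v v = 1 → v 0 = 0 →
      ∃ g ∈ K, app C g (basv (k + 1) 0) = v := fun v hv h0 => by
    obtain ⟨y, he⟩ := reach_tail hq (by omega) htail hv h0
    exact ⟨_, K.mul_mem (hy y) (hl _), he⟩
  by_cases h0 : v 0 = 0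
  · exact hzero v hv h0
  have ha := nm_eq_one hq h0
  have h1k : 1 + k ≤ k + 1 := by omega
  set v' := v ∘ win (k + 1) 1 k h1k with hv'
  obtain ⟨x', hx', hxv⟩ := exists_unit_perp_iso hq hk (v := v')
  set x := extVec (win (k + 1) 1 k h1k) x' with hx
  have hx0 : x 0 = 0 := by
    rw [hx, extVec_not_mem]
    rw [mem_range_win]; simp
  obtain ⟨g, hgK, hg⟩ := hzero x (by rw [hx, herm_extVec]; exact hx') hx0
  set w := app C g⁻¹ v with hw
  have hw0 : w 0 = 0 := by
    have e := herm_basv_right C w (Nat.succ_pos k)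
    rw [hw, herm_app_left, hg, herm_split C v x, hx0, map_zero, mul_zero, zero_add, hx, extVec_comp,
      ← hv', show herm C v' x' = 0 from herm_perp_comm C hxv] at e
    exact e.symm
  obtain ⟨g', hg'K, hg'⟩ := hzero w (by rw [hw, herm_app]; exact hv) hw0
  exact ⟨g * g', K.mul_mem hgK hg'K, by rw [app_mul, hg', hw, app_app_inv]⟩

/-- `SU_d` is transitive on unit vectors. -/
theorem exists_move_two {d : ℕ} (hd : 2 ≤ d) :
    ∀ v : Fin d → F, herm C v v = 1 → ∃ g : suG C (Fin d), app C g (basv d 0) = v := by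
  induction d, hd using Nat.le_induction with
  | base =>
    intro v hv
    have h : nm C (v 0) + nm C (v 1) = 1 := by
      rw [← hv]; simp [herm, Fin.sum_univ_two, nm]
    exact ⟨suTwo C (v 0) (v 1) h, by rw [app_suTwo_zero]; funext i; fin_cases i <;> rfl⟩
  | succ k hk ih =>
    intro v hv
    rcases Nat.lt_or_ge k 3 with hk3 | hk3
    swap
    · obtain ⟨g, -, hg⟩ := reach hq hk3 ih ⊤ (fun _ => Subgroup.mem_top _) (fun _ => Subgroup.mem_top _) hv
      exact ⟨g, hg⟩
    obtain rfl : k = 2 := by omega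
    by_cases h0 : v 0 = 0
    · obtain ⟨y, he⟩ := reach_tail hq le_rfl ih hv h0
      exact ⟨_, he⟩
    have hsum : nm C (v 0) + (nm C (v 1) + nm C (v 2)) = 1 := by
      rw [← hv]; simp [herm, Fin.sum_univ_three, nm, add_assoc]
    rw [nm_eq_one hq h0] at hsum
    rcases nm_cases hq (v 1) with h1 | h1
    · rw [h1, nm_zero, zero_add, add_eq_left] at hsum
      have hn : nm C (v 0) + nm C 0 = 1 := by rw [nm_eq_one hq h0, nm_zero, add_zero]
      refine ⟨wext C 0 (by omega : 0 + 2 ≤ 3) (suTwo C (v 0) 0 hn), ?_⟩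
      rw [show (basv 3 0 : Fin 3 → F) = basv _ (0 + 0) by rfl, wext_basv C _ (by omega), app_suTwo_zero]
      funext i
      fin_cases i
      · exact (extVec_mem _ _ 0).trans rfl
      · exact (extVec_mem _ _ 1).trans h1.symm
      · rw [extVec_not_mem _ _ (by rw [mem_range_win]; simp)]
        exact ((nm_eq_zero C).1 hsum).symm
    · have h2 : v 2 ≠ 0 := fun e => by
        rw [h1, e, nm_zero, add_zero] at hsum
        exact one_ne_zero (α := F) (by linear_combination hsum)
      obtain ⟨g, hg⟩ := exists_full hq (nm_eq_one hq h0) h1 (nm_eq_one hq h2)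
      exact ⟨g, by rw [hg]; funext i; fin_cases i <;> rfl⟩

/-- The tail and the first block generate. -/
theorem eq_top_of_tail {k : ℕ} (hk : 3 ≤ k) (K : Subgroup (suG C (Fin (k + 1))))
    (hy : ∀ y, wext C 1 (by omega : 1 + k ≤ k + 1) y ∈ K)
    (hl : ∀ l, wext C 0 (by omega : 0 + 2 ≤ k + 1) l ∈ K) : K = ⊤ := by
  refine (Subgroup.eq_top_iff' _).2 fun g => ?_
  obtain ⟨g', hg'K, hg'⟩ := reach hq hk (exists_move_two hq (by omega)) K hy hl
    (v := app C g (basv (k + 1) 0)) (by rw [herm_app, herm_basv_self C (by omega)])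
  obtain ⟨y, hy'⟩ := exists_tail C (k := k) (by omega) (g := g'⁻¹ * g)
    (by rw [app_mul, ← hg', app_inv_app])
  have := K.mul_mem hg'K (hy y)
  rwa [hy', mul_inv_cancel_left] at this

/-- Two maps agreeing on all windows of three coordinates are equal. -/
theorem hom_ext_windows {d : ℕ} (hd : 3 ≤ d) {H : Type*} [Group H] :
    ∀ (f f' : suG C (Fin d) →* H),
      (∀ (i : ℕ) (hi : i + 3 ≤ d) (g : suG C (Fin 3)), f (wext C i hi g) = f' (wext C i hi g)) →
      f = f' := by
  induction d, hd using Nat.le_induction with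
  | base =>
    intro f f' h
    refine MonoidHom.ext fun g => ?_
    rw [← wext_zero C (show 0 + 3 ≤ 3 by omega) g]
    exact h 0 _ g
  | succ k hk ih =>
    intro f f' h
    refine MonoidHom.ext fun g => ?_
    have hK := eq_top_of_tail hq hk (MonoidHom.eqLocus f f') (fun y => ?_) (fun l => ?_)
    · exact (hK ▸ Subgroup.mem_top g : g ∈ MonoidHom.eqLocus f f')
    · exact DFunLike.congr_fun (ih (f.comp (wext C 1 (by omega))) (f'.comp (wext C 1 (by omega)))
        fun i hi g => by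
          rw [MonoidHom.comp_apply, MonoidHom.comp_apply, wext_wext]
          exact h _ _ g) y
    · have e := h 0 (by omega) (wext C 0 (by omega : 0 + 2 ≤ 3) l)
      rw [wext_wext] at e
      exact e

theorem exists_frame_one_two {k : ℕ} (hk : 2 ≤ k) {f : Fin (k + 1) → F}
    (hf : herm C f f = 1) (hf0 : f 0 = 0) :
    ∃ g : suG C (Fin (k + 1)), app C g (basv (k + 1) 0) = basv (k + 1) 0 ∧
      app C g (basv (k + 1) 1) = f := by
  have h1 : 1 + k ≤ k + 1 := by omega
  have hdec : f = extVec (win (k + 1) 1 k h1) (f ∘ win (k + 1) 1 k h1) := by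
    refine eq_extVec h1 f fun i hi => ?_
    rw [show i = 0 from Fin.ext (show (i : ℕ) = 0 by omega), hf0]
  obtain ⟨y, hy⟩ := exists_move_two hq hk (f ∘ win (k + 1) 1 k h1)
    (by rw [← herm_extVec C (win (k + 1) 1 k h1), ← hdec]; exact hf)
  refine ⟨wext C 1 h1 y, wext_basv_out C h1 (Or.inl (by omega)) y, ?_⟩
  rw [show (basv (k + 1) 1 : Fin (k + 1) → F) = basv _ (1 + 0) by rfl, wext_basv C h1 (by omega), hy,
    ← hdec]

/-- An orthonormal pair is the image of the first two basis vectors. -/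
theorem exists_frame_pair_two {k : ℕ} (hk : 2 ≤ k) {f₀ f₁ : Fin (k + 1) → F}
    (h₀ : herm C f₀ f₀ = 1) (h₁ : herm C f₁ f₁ = 1) (h₁₀ : herm C f₁ f₀ = 0) :
    ∃ g : suG C (Fin (k + 1)), app C g (basv (k + 1) 0) = f₀ ∧ app C g (basv (k + 1) 1) = f₁ := by
  obtain ⟨g, hg⟩ := exists_move_two hq (d := k + 1) (by omega) f₀ h₀
  obtain ⟨y, hy0, hy1⟩ := exists_frame_one_two hq hk (f := app C g⁻¹ f₁) (by rw [herm_app]; exact h₁) (by
    have := herm_basv_right C (app C g⁻¹ f₁) (Nat.succ_pos k)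
    rw [herm_app_left, hg, h₁₀] at this
    exact this.symm)
  exact ⟨g * y, by rw [app_mul, hy0, hg], by rw [app_mul, hy1, app_app_inv]⟩

/-- An orthonormal triple is the image of the first three basis vectors. -/
theorem exists_frame_triple_two {k : ℕ} (hk : 3 ≤ k) {f₀ f₁ f₂ : Fin (k + 1) → F}
    (h₀ : herm C f₀ f₀ = 1) (h₁ : herm C f₁ f₁ = 1) (h₂ : herm C f₂ f₂ = 1)
    (h₁₀ : herm C f₁ f₀ = 0) (h₂₀ : herm C f₂ f₀ = 0) (h₂₁ : herm C f₂ f₁ = 0) :
    ∃ g : suG C (Fin (k + 1)), app C g (basv (k + 1) 0) = f₀ ∧ app C g (basv (k + 1) 1) = f₁ ∧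
      app C g (basv (k + 1) 2) = f₂ := by
  obtain ⟨g, hg0, hg1⟩ := exists_frame_pair_two hq (by omega : 2 ≤ k) h₀ h₁ h₁₀
  set u := app C g⁻¹ f₂ with hu
  have hz : ∀ (i : ℕ) (hi : i < k + 1) (f : Fin (k + 1) → F), app C g (basv (k + 1) i) = f →
      herm C f₂ f = 0 → u ⟨i, hi⟩ = 0 := fun i hi f hf h => by
    rw [← herm_basv_right C u hi, hu, herm_app_left, hf, h]
  have h2k : 2 + (k - 1) ≤ k + 1 := by omega
  have hdec : u = extVec (win (k + 1) 2 (k - 1) h2k) (u ∘ win (k + 1) 2 (k - 1) h2k) := by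
    refine eq_extVec h2k u fun i hi => ?_
    rcases (show (i : ℕ) = 0 ∨ (i : ℕ) = 1 by omega) with h | h
    · rw [show i = ⟨0, by omega⟩ from Fin.ext h]; exact hz 0 _ _ hg0 h₂₀
    · rw [show i = ⟨1, by omega⟩ from Fin.ext h]; exact hz 1 _ _ hg1 h₂₁
  obtain ⟨y, hy⟩ := exists_move_two hq (d := k - 1) (by omega) (u ∘ win (k + 1) 2 (k - 1) h2k)
    (by rw [← herm_extVec C (win (k + 1) 2 (k - 1) h2k), ← hdec, hu, herm_app, h₂])
  refine ⟨g * wext C 2 h2k y, ?_, ?_, ?_⟩
  · rw [app_mul, wext_basv_out C h2k (Or.inl (by omega)), hg0]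
  · rw [app_mul, wext_basv_out C h2k (Or.inl (by omega)), hg1]
  · rw [app_mul, show (basv (k + 1) 2 : Fin (k + 1) → F) = basv _ (2 + 0) from rfl,
      wext_basv C h2k (by omega), hy, ← hdec, hu, app_app_inv]

end CfsgLib.Phan.Two
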