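import Cfsg.Agent.Phan.Two.SUThree
import Cfsg.Agent.Phan.Recognise
import Cfsg.Agent.Phan.Three.Blocks4
import Cfsg.Agent.Phan.Standard

/-!
# Standard pairs over four elements and their position inside `SU_4`
-/

set_option autoImplicit false
set_option linter.unusedSectionVars false

namespace CfsgLib.Phan.Two

open CfsgLib.RepBounds.Unit Matrix

variable {F : Type*} [Field F] [Fintype F] {C : ConjField F} {G : Type*} [Group G]

/-- The first window of three coordinates of `SU_4`. -/
noncomputable def w0 : suG C (Fin 3) →* suG C (Fin 4) := wext C 0 (by omega : 0 + 3 ≤ 4)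

/-- The second window of three coordinates of `SU_4`. -/
noncomputable def w1 : suG C (Fin 3) →* suG C (Fin 4) := wext C 1 (by omega : 1 + 3 ≤ 4)

theorem app_w0 (y : suG C (Fin 3)) (x : Fin 4 → F) :
    app C (w0 y) x = ![app C y ![x 0, x 1, x 2] 0, app C y ![x 0, x 1, x 2] 1,
      app C y ![x 0, x 1, x 2] 2, x 3] := by
  have h : x ∘ win 4 0 3 (by omega) = ![x 0, x 1, x 2] := by funext j; fin_cases j <;> rfl
  funext i
  fin_cases i
  · show app C (ext C _ y) x (win 4 0 3 (by omega) 0) = _
    rw [app_ext_mem, h]; rfl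
  · show app C (ext C _ y) x (win 4 0 3 (by omega) 1) = _
    rw [app_ext_mem, h]; rfl
  · show app C (ext C _ y) x (win 4 0 3 (by omega) 2) = _
    rw [app_ext_mem, h]; rfl
  · show app C (ext C _ y) x _ = _
    rw [app_ext_not_mem]
    · rfl
    · rw [mem_range_win]; simp

theorem app_w1 (y : suG C (Fin 3)) (x : Fin 4 → F) :
    app C (w1 y) x = ![x 0, app C y ![x 1, x 2, x 3] 0, app C y ![x 1, x 2, x 3] 1,
      app C y ![x 1, x 2, x 3] 2] := by
  have h : x ∘ win 4 1 3 (by omega) = ![x 1, x 2, x 3] := by funext j; fin_cases j <;> rfl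
  funext i
  fin_cases i
  · show app C (ext C _ y) x _ = _
    rw [app_ext_not_mem]
    · rfl
    · rw [mem_range_win]; simp
  · show app C (ext C _ y) x (win 4 1 3 (by omega) 0) = _
    rw [app_ext_mem, h]; rfl
  · show app C (ext C _ y) x (win 4 1 3 (by omega) 1) = _
    rw [app_ext_mem, h]; rfl
  · show app C (ext C _ y) x (win 4 1 3 (by omega) 2) = _
    rw [app_ext_mem, h]; rfl

theorem w0_injective : Function.Injective (w0 (C := C)) := ext_injective C _

theorem w1_injective : Function.Injective (w1 (C := C)) := ext_injective C _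

theorem w0_fix (y : suG C (Fin 3)) : app C (w0 y) (basv 4 3) = basv 4 3 :=
  wext_basv_out C _ (Or.inr (by omega)) y

theorem w1_fix (y : suG C (Fin 3)) : app C (w1 y) (basv 4 0) = basv 4 0 :=
  wext_basv_out C _ (Or.inl (by omega)) y

theorem conj_shift_w0 (y : suG C (Fin 3)) :
    Three.shift C * w0 y * (Three.shift C)⁻¹ = w1 y := by
  refine suG_ext C fun x => ?_
  simp only [app_mul, Three.app_shift, Three.app_shift_inv, app_w0, app_w1]
  funext i
  fin_cases i <;> simp

theorem exists_w0 {g : suG C (Fin 4)} (hg : app C g (basv 4 3) = basv 4 3) : ∃ y, w0 y = g := by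
  have h0 : app C (Three.shift C)⁻¹ (basv 4 0) = (-1 : F) • basv 4 3 := by
    rw [Three.app_shift_inv]; funext i; fin_cases i <;> simp [basv]
  obtain ⟨y, hy⟩ := exists_tail C (k := 3) (by omega)
    (g := Three.shift C * g * (Three.shift C)⁻¹) (by
      show app C _ (basv 4 0) = basv 4 0
      rw [app_mul, app_mul, h0, app_smul, hg, ← h0, app_app_inv])
  refine ⟨y, ?_⟩
  have e : w1 y = Three.shift C * g * (Three.shift C)⁻¹ := hy
  rw [← conj_shift_w0, mul_left_inj, mul_right_inj] at e
  exact e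

theorem exists_w1 {g : suG C (Fin 4)} (hg : app C g (basv 4 0) = basv 4 0) : ∃ y, w1 y = g :=
  exists_tail C (k := 3) (by omega) hg

/-- A map through a larger injective one. -/
theorem exists_lift {H K : Type*} [Group H] [Group K] {π : H →* G} (hπ : Function.Injective π)
    (f : K →* G) (h : f.range ≤ π.range) : ∃ j : K →* H, π.comp j = f := by
  let e := MonoidHom.ofInjective hπ
  refine ⟨e.symm.toMonoidHom.comp (f.codRestrict π.range fun x => h ⟨x, rfl⟩), MonoidHom.ext fun x => ?_⟩
  show π (e.symm ⟨f x, _⟩) = f x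
  exact congrArg Subtype.val (e.apply_symm_apply ⟨f x, h ⟨x, rfl⟩⟩)

theorem range_comp_eq {H K M : Type*} [Group H] [Group K] [Group M] {f : H →* G} (hf : Function.Injective f)
    {a : K →* H} {b : M →* H} : (f.comp a).range = (f.comp b).range ↔ a.range = b.range := by
  rw [MonoidHom.range_comp, MonoidHom.range_comp]
  exact (Subgroup.map_injective hf).eq_iff

section two

variable (hq : C.q = 2)
include hq

theorem torus_of_cube {y : suG C (Fin 2)} (h3 : y * (y * y) = 1) (h1 : y ≠ 1) :
    ∃ (c : F) (hc : nm C c = 1), c ≠ 1 ∧ y = suTwo C c 0 (nm_torus C hc) := by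
  rcases two_cases hq y with ⟨b, hb, e⟩ | ⟨c, hc, e, -⟩
  · exfalso
    rw [e, swap_sq hq hb, mul_one] at h3
    exact h1 (e.trans h3)
  · refine ⟨c, hc, fun h => h1 ?_, e⟩
    rw [e, suTwo_congr C _ (by rw [nm_one, nm_zero, add_zero]) h rfl, suTwo_one_torus]

theorem torus_cube {c : F} (hc : nm C c = 1) :
    suTwo C c 0 (nm_torus C hc) * (suTwo C c 0 (nm_torus C hc) * suTwo C c 0 (nm_torus C hc)) = 1 := by
  refine eq_of_col hq ?_
  rw [app_mul, app_mul, app_suTwo_zero, app_suTwo, app_suTwo, app_one]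
  have : C.σ c = c * c := by rw [C.pow, hq, pow_two]
  rw [nm, this] at hc
  funext i
  fin_cases i <;> simp [basv]
  linear_combination hc

theorem torus_ne_one {c : F} (hc : nm C c = 1) (h1 : c ≠ 1) : suTwo C c 0 (nm_torus C hc) ≠ 1 := fun h => by
  have := congrArg (fun g => app C g (basv 2 0) 0) h
  simp only [app_suTwo_zero, app_one] at this
  exact h1 (by simpa [basv] using this)

/-- A standard pair over four elements. -/
theorem exists_pair_two {V A B : Subgroup G} (h : Cfsg.IsStandardUnitaryPair V A B F C.q)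
    (eA : suG C (Fin 2) ≃* A) (eB : suG C (Fin 2) ≃* B) :
    ∃ ψ : suG C (Fin 3) →* G, IsPair C ψ A B ∧ ψ.range = V ∧
      (Function.Injective ψ ∨ ∀ k, (∀ g, Commute g k) → ψ k = 1) := by
  rw [Cfsg.IsStandardUnitaryPair, suBlock_upper, suBlock_lower] at h
  simp only [MonoidHom.map_range] at h
  have inj : ∀ {X : Subgroup G} (_ : suG C (Fin 2) ≃* X) (f : suG C (Fin 2) →* G), f.range = X →
      Function.Injective f := by
    intro X e f hf
    have hb : Function.Bijective f.rangeRestrict :=
      (Nat.bijective_iff_surjective_and_card _).2 ⟨f.rangeRestrict_surjective,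
        Nat.card_congr (e.trans (MulEquiv.subgroupCongr hf.symm)).toEquiv⟩
    exact fun a b hab => hb.1 (Subtype.ext hab)
  rcases h with ⟨ψ, hA, hB⟩ | ⟨ψ, hA, hB⟩
  · refine ⟨(V.subtype.comp ψ.toMonoidHom).comp (toSU C).toMonoidHom,
      ⟨inj eA _ hA, inj eB _ hB, hA, hB⟩, ?_, Or.inl ?_⟩
    · rw [MonoidHom.range_comp, MonoidHom.range_eq_top.2 (toSU C).surjective,
        ← MonoidHom.range_eq_map, MonoidHom.range_comp, MonoidHom.range_eq_top.2 ψ.surjective,
        ← MonoidHom.range_eq_map, Subgroup.range_subtype]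
    · exact (Subtype.val_injective.comp ψ.injective).comp (toSU C).injective
  · set mk := QuotientGroup.mk' (Subgroup.center (Cfsg.SU 3 F C.q)) with hmk
    refine ⟨(V.subtype.comp (ψ.toMonoidHom.comp mk)).comp (toSU C).toMonoidHom,
      ⟨inj eA _ hA, inj eB _ hB, hA, hB⟩, ?_, Or.inr ?_⟩
    · rw [MonoidHom.range_comp, MonoidHom.range_eq_top.2 (toSU C).surjective,
        ← MonoidHom.range_eq_map, MonoidHom.range_comp, MonoidHom.range_eq_top.2
          (ψ.surjective.comp (QuotientGroup.mk'_surjective _)), ← MonoidHom.range_eq_map,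
        Subgroup.range_subtype]
    · intro k hk
      have h1 : mk (toSU C k) = 1 := by
        rw [hmk, QuotientGroup.mk'_apply, QuotientGroup.eq_one_iff, Subgroup.mem_center_iff]
        intro g
        obtain ⟨g, rfl⟩ := (toSU C).surjective g
        rw [← map_mul, ← map_mul, (hk g).eq]
      show (ψ (mk (toSU C k)) : G) = 1
      rw [h1, map_one]; rfl

/-- Both pairs of a window are copies of `SU_3`. -/
theorem injective_of_window {ψ ψ' : suG C (Fin 3) →* G} {A B D : Subgroup G} (hψ : IsPair C ψ A B)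
    (hψ' : IsPair C ψ' B D) (h : Function.Injective ψ ∨ ∀ k, (∀ g, Commute g k) → ψ k = 1)
    (h' : Function.Injective ψ' ∨ ∀ k, (∀ g, Commute g k) → ψ' k = 1)
    (hc : ∀ u ∈ A, ∀ v ∈ D, Commute u v) : Function.Injective ψ ∧ Function.Injective ψ' := by
  obtain ⟨w, hw, hs, -, h3, hw1⟩ := exists_omega hq
  have hw2 : nm C (w * w) = 1 := by rw [nm_mul, hw, one_mul]
  have hw21 : w * w ≠ 1 := fun e => hw1 (by rw [e, mul_one] at h3; exact h3)
  have hz : ∀ g, Commute g (elZ w hw) := fun g => suG_ext C fun x => by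
    rw [app_mul, app_mul, app_elZ hq w hw hs h3, app_elZ hq w hw hs h3, app_smul]
  have h01 := nm_swap hq (nm_one C)
  constructor
  · refine h.resolve_right fun hk => ?_
    have e := hk _ hz
    rw [elZ, map_mul] at e
    set c := suTwo C (w * w) 0 (nm_torus C hw2)
    obtain ⟨y, hy⟩ : ψ (loB C c) ∈ (ψ'.comp (upB C)).range := by
      rw [hψ'.range_up, ← hψ.range_lo]; exact ⟨_, rfl⟩
    have hy' : ψ' (upB C y) = ψ (loB C c) := hy
    obtain ⟨d, hd, hd1, rfl⟩ := torus_of_cube hq (y := y) (hψ'.inj_up (by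
      rw [map_mul, map_mul, map_one, hy]
      show ψ (loB C c) * (ψ (loB C c) * ψ (loB C c)) = 1
      rw [← map_mul, ← map_mul, ← map_mul, ← map_mul, torus_cube hq hw2, map_one, map_one]))
      (fun e1 => torus_ne_one hq hw2 hw21 (hψ.inj_lo (by rw [map_one, ← map_one (ψ'.comp (upB C)), ← e1]; exact hy.symm)))
    have hmem : ψ (loB C c) ∈ A := by
      rw [← inv_eq_of_mul_eq_one_right e, ← hψ.range_up, ← map_inv, ← map_inv]
      exact ⟨_, rfl⟩
    have hcm := (hc _ hmem _ (hψ'.range_lo ▸ ⟨suTwo C 0 1 h01, rfl⟩ : ψ' (loB C (suTwo C 0 1 h01)) ∈ D)).eq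
    rw [← hy', ← map_mul, upB_torus_conj C hd h01, map_mul, mul_left_inj] at hcm
    exact hd1 (by simpa using (suTwo_inj C (hψ'.inj_lo hcm)).2)
  · refine h'.resolve_right fun hk => ?_
    have e := hk _ hz
    rw [elZ, map_mul] at e
    set c := suTwo C w 0 (nm_torus C hw)
    obtain ⟨y, hy⟩ : ψ' (upB C c) ∈ (ψ.comp (loB C)).range := by
      rw [hψ.range_lo, ← hψ'.range_up]; exact ⟨_, rfl⟩
    have hy' : ψ (loB C y) = ψ' (upB C c) := hy
    obtain ⟨d, hd, hd1, rfl⟩ := torus_of_cube hq (y := y) (hψ.inj_lo (by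
      rw [map_mul, map_mul, map_one, hy]
      show ψ' (upB C c) * (ψ' (upB C c) * ψ' (upB C c)) = 1
      rw [← map_mul, ← map_mul, ← map_mul, ← map_mul, torus_cube hq hw, map_one, map_one]))
      (fun e1 => torus_ne_one hq hw hw1 (hψ'.inj_up (by rw [map_one, ← map_one (ψ.comp (loB C)), ← e1]; exact hy.symm)))
    have hmem : ψ' (upB C c) ∈ D := by
      rw [eq_inv_of_mul_eq_one_left e, ← hψ'.range_lo, ← map_inv, ← map_inv]
      exact ⟨_, rfl⟩
    have hcm := (hc _ (hψ.range_up ▸ ⟨suTwo C 0 1 h01, rfl⟩ : ψ (upB C (suTwo C 0 1 h01)) ∈ A) _ hmem).eq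
    rw [← hy', ← map_mul ψ (loB C _), loB_torus_conj C hd h01, map_mul, mul_left_inj] at hcm
    exact hd1 (by simpa using (suTwo_inj C (hψ.inj_up hcm.symm)).2)

/-- A copy of `SU_2` with a fixed unit vector is its stabiliser. -/
theorem stab_range_three {α : suG C (Fin 2) →* suG C (Fin 3)} (hα : Function.Injective α)
    {e : Fin 3 → F} (he : herm C e e = 1) (hfix : ∀ g, app C (α g) e = e) (x : suG C (Fin 3)) :
    x ∈ α.range ↔ app C x e = e := by
  obtain ⟨g, hg⟩ := exists_move_two hq (d := 3) (by omega) e he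
  set j := (MulAut.conj g).toMonoidHom.comp (loB C) with hj
  have hjmem : ∀ x, app C x e = e → x ∈ j.range := fun x hx => by
    obtain ⟨y, hy⟩ := exists_loB C (g := g⁻¹ * x * g) (by
      rw [app_mul, app_mul, hg, hx, ← hg, app_inv_app])
    refine ⟨y, ?_⟩
    show g * loB C y * g⁻¹ = x
    rw [hy]; group
  have hle : α.range ≤ j.range := by
    rintro _ ⟨y, rfl⟩; exact hjmem _ (hfix y)
  have heq : α.range = j.range := by
    refine Subgroup.eq_of_le_of_card_ge hle ?_
    rw [← Nat.card_congr (MonoidHom.ofInjective hα).toEquiv,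
      ← Nat.card_congr (MonoidHom.ofInjective (f := j) ((MulAut.conj g).injective.comp (loB_injective C))).toEquiv]
  refine ⟨?_, fun hx => heq ▸ hjmem x hx⟩
  rintro ⟨y, rfl⟩
  exact hfix y

theorem fixed_line_two {e u : Fin 3 → F} (he : herm C e e = 1) {x : suG C (Fin 3)}
    (hx : app C x e = e) (h3 : x * (x * x) = 1) (h1 : x ≠ 1) (hu : app C x u = u) :
    ∃ c : F, u = c • e := by
  obtain ⟨g, hg⟩ := exists_move_two hq (d := 3) (by omega) e he
  obtain ⟨y, hy⟩ := exists_loB C (g := g⁻¹ * x * g) (by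
    rw [app_mul, app_mul, hg, hx, ← hg, app_inv_app])
  obtain ⟨t, ht, ht1, rfl⟩ := torus_of_cube hq (y := y) (loB_injective C (by
    rw [map_mul, map_mul, map_one, hy,
      show g⁻¹ * x * g * (g⁻¹ * x * g * (g⁻¹ * x * g)) = g⁻¹ * (x * (x * x)) * g by group, h3]
    group)) (fun h => h1 (by
      rw [h, map_one] at hy
      rw [show x = g * (g⁻¹ * x * g) * g⁻¹ by group, ← hy, mul_one, mul_inv_cancel]))
  set u' := app C g⁻¹ u with hu'
  have e1 : app C (loB C (suTwo C t 0 (nm_torus C ht))) u' = u' := by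
    rw [hy, hu', app_mul, app_mul, app_app_inv, hu]
  rw [app_loB, app_suTwo] at e1
  have q1 := congrFun e1 1
  have q2 := congrFun e1 2
  simp at q1 q2
  have ht' : C.σ t ≠ 1 := fun h => ht1 (C.σ.injective (by rw [h, map_one]))
  have v1 : u' 1 = 0 := (mul_eq_zero.1 (show (t - 1) * u' 1 = 0 by linear_combination q1)).resolve_left
    (sub_ne_zero.2 ht1)
  have v2 : u' 2 = 0 := (mul_eq_zero.1 (show (C.σ t - 1) * u' 2 = 0 by linear_combination q2)).resolve_left
    (sub_ne_zero.2 ht')
  refine ⟨u' 0, ?_⟩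
  rw [← app_app_inv C g u, ← hu', ← hg, ← app_smul]
  congr 1
  funext i; fin_cases i <;> simp [basv, v1, v2]

/-- The blocks of a copy of `SU_3` in itself are those of a frame. -/
theorem exists_std_three {δ : suG C (Fin 3) →* suG C (Fin 3)} (hδ : Function.Injective δ) :
    ∃ g : suG C (Fin 3),
      (∀ x, x ∈ (δ.comp (upB C)).range ↔ app C x (app C g (basv 3 2)) = app C g (basv 3 2)) ∧
      ∀ x, x ∈ (δ.comp (loB C)).range ↔ app C x (app C g (basv 3 0)) = app C g (basv 3 0) := by
  obtain ⟨w, hw, -, -, -, hw1⟩ := exists_omega hq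
  have hiA : Function.Injective (δ.comp (upB C)) := hδ.comp (upB_injective C)
  have hiB : Function.Injective (δ.comp (loB C)) := hδ.comp (loB_injective C)
  obtain ⟨e, he, hfe⟩ := exists_fixed_even C (two_eq_zero hq) (δ.comp (upB C))
  obtain ⟨f, hf, hff⟩ := exists_fixed_even C (two_eq_zero hq) (δ.comp (loB C))
  have sA := stab_range_three hq hiA he hfe
  have sB := stab_range_three hq hiB hf hff
  set a := δ (upB C (suTwo C w 0 (nm_torus C hw))) with ha
  set a' := δ (loB C (suTwo C w 0 (nm_torus C hw))) with ha'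
  have ha3 : a * (a * a) = 1 := by
    rw [ha, ← map_mul, ← map_mul, ← map_mul, ← map_mul, torus_cube hq hw, map_one, map_one]
  have ha'3 : a' * (a' * a') = 1 := by
    rw [ha', ← map_mul, ← map_mul, ← map_mul, ← map_mul, torus_cube hq hw, map_one, map_one]
  have hane : a ≠ 1 := fun h => torus_ne_one hq hw hw1 (hiA (h.trans (map_one _).symm))
  have ha'ne : a' ≠ 1 := fun h => torus_ne_one hq hw hw1 (hiB (h.trans (map_one _).symm))
  have hcomm : a * a' = a' * a := by
    rw [ha, ha', ← map_mul, ← map_mul, upB_torus_conj C hw (nm_torus C hw),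
      suTwo_congr C _ (nm_torus C hw) rfl (mul_zero w)]
  have hindep : ∀ c : F, e ≠ c • f := by
    intro c hc
    have hc0 : c ≠ 0 := fun h => zero_ne_one (α := F) (by rw [← he, hc, h, zero_smul, herm_zero_left])
    have : δ (upB C (suTwo C 0 1 (nm_swap hq (nm_one C)))) ∈ (δ.comp (loB C)).range := by
      rw [sB]
      have h := hfe (suTwo C 0 1 (nm_swap hq (nm_one C)))
      rw [MonoidHom.comp_apply, hc, app_smul] at h
      exact smul_right_injective _ hc0 h
    obtain ⟨y, hy⟩ := this
    have e1 := congrArg (fun g => app C g (basv 3 0) 1) (hδ hy)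
    simp only [app_upB, app_suTwo] at e1
    rw [loB_fix] at e1
    simp [basv] at e1
  have hef : herm C e f = 0 := by
    obtain ⟨μ, hμ⟩ := fixed_line_two hq he (hfe _) ha3 hane (u := app C a' e) (by
      show app C a (app C a' e) = app C a' e
      rw [← app_mul, hcomm, app_mul]
      exact congrArg (app C a') (hfe _))
    have h := herm_app C a' e f
    rw [hμ, show app C a' f = f from hff _, herm_smul_left] at h
    by_contra hne
    have hμ1 : μ = 1 := mul_right_cancel₀ hne (by rw [one_mul]; exact h)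
    rw [hμ1, one_smul] at hμ
    obtain ⟨c, hc⟩ := fixed_line_two hq hf (hff _) ha'3 ha'ne hμ
    exact hindep c hc
  obtain ⟨g1, g10, g11⟩ := exists_frame_pair_two hq (k := 2) le_rfl hf he hef
  set v := app C g1 (basv 3 2) with hv
  have hvf : herm C v f = 0 := by rw [← g10, hv, herm_app, herm_basv_ne C (by omega) (by omega)]
  have hve : herm C v e = 0 := by rw [← g11, hv, herm_app, herm_basv_ne C (by omega) (by omega)]
  obtain ⟨g, g0, g1'⟩ := exists_frame_pair_two hq (k := 2) le_rfl hf
    (show herm C v v = 1 by rw [hv, herm_app, herm_basv_self C (by omega)]) hvf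
  obtain ⟨c, hc⟩ := eq_smul_of_perp_two C (g := g) (x := e) (by rw [g0]; exact hef)
    (by rw [g1']; exact herm_perp_comm C hve)
  have hc0 : c ≠ 0 := fun h => zero_ne_one (α := F) (by rw [← he, hc, h, zero_smul, herm_zero_left])
  refine ⟨g, fun x => ?_, fun x => ?_⟩
  · rw [sA, hc, app_smul]
    exact (smul_right_injective _ hc0).eq_iff
  · rw [sB, ← g0]

/-- Two injective pairs inside a copy of `SU_4` are its two windows. -/
theorem exists_four_two {π : suG C (Fin 4) →* G} (hπ : Function.Injective π)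
    {ψ ψ' : suG C (Fin 3) →* G} {A B D : Subgroup G} (hψ : IsPair C ψ A B) (hψ' : IsPair C ψ' B D)
    (hi : Function.Injective ψ) (hi' : Function.Injective ψ') (hsup : ψ.range ⊔ ψ'.range = π.range)
    (hc : ∀ u ∈ A, ∀ v ∈ D, Commute u v) :
    ∃ φ : suG C (Fin 4) →* G, Function.Injective φ ∧ (φ.comp w0).range = ψ.range ∧
      (φ.comp w1).range = ψ'.range ∧ ((φ.comp w0).comp (upB C)).range = A ∧
      ((φ.comp w0).comp (loB C)).range = B ∧ ((φ.comp w1).comp (loB C)).range = D := by
  obtain ⟨j, hj⟩ := exists_lift hπ ψ (hsup ▸ le_sup_left)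
  have hji : Function.Injective j := fun a b h => hi (by rw [← hj]; exact congrArg π h)
  obtain ⟨u, hu, hstab⟩ := exists_stab_range_four hq hji
  obtain ⟨h0, hh0⟩ := exists_move_two hq (d := 4) (by omega) u hu
  set h := h0 * Three.shift C with hh
  have hh3 : app C h (basv 4 3) = u := by
    rw [hh, app_mul, show app C (Three.shift C) (basv 4 3) = basv 4 0 by
      rw [Three.app_shift]; funext i; fin_cases i <;> simp [basv]
      linear_combination -two_eq_zero hq, hh0]
  obtain ⟨δ, hδ⟩ := exists_lift (π := (MulAut.conj h).toMonoidHom.comp w0)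
    ((MulAut.conj h).injective.comp w0_injective) j (by
      rintro x hx
      obtain ⟨y, hy⟩ := exists_w0 (g := h⁻¹ * x * h) (by
        rw [app_mul, app_mul, hh3, (hstab x).1 hx, ← hh3, app_inv_app])
      exact ⟨y, by show h * w0 y * h⁻¹ = x; rw [hy]; group⟩)
  have hδi : Function.Injective δ := fun a b e => hji (by
    simp only [← hδ, MonoidHom.comp_apply, e])
  obtain ⟨g3, sA, sB⟩ := exists_std_three hq hδi
  set g := h * w0 g3 with hg
  set φ := π.comp (MulAut.conj g).toMonoidHom with hφ
  have hφi : Function.Injective φ := hπ.comp (MulAut.conj g).injective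
  have hφr : φ.range = π.range := by
    rw [hφ, MonoidHom.range_comp, MonoidHom.range_eq_top.2 (MulAut.conj g).surjective,
      ← MonoidHom.range_eq_map]
  have key : φ.comp w0 = (π.comp ((MulAut.conj h).toMonoidHom.comp w0)).comp
      (MulAut.conj g3).toMonoidHom := MonoidHom.ext fun y => by
    show π (g * w0 y * g⁻¹) = π (h * w0 (g3 * y * g3⁻¹) * h⁻¹)
    congr 1
    rw [hg, map_mul w0, map_mul w0, map_inv w0]; group
  have hψδ : ψ = (π.comp ((MulAut.conj h).toMonoidHom.comp w0)).comp δ := by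
    rw [MonoidHom.comp_assoc, hδ, hj]
  have hinj0 : Function.Injective (π.comp ((MulAut.conj h).toMonoidHom.comp w0)) :=
    hπ.comp ((MulAut.conj h).injective.comp w0_injective)
  have hconjUp : ((MulAut.conj g3).toMonoidHom.comp (upB C)).range = (δ.comp (upB C)).range := by
    ext x
    rw [sA]
    constructor
    · rintro ⟨y, rfl⟩
      show app C (g3 * upB C y * g3⁻¹) _ = _
      rw [app_mul, app_mul, app_inv_app, upB_fix]
    · intro hx
      obtain ⟨y, hy⟩ := exists_upB C (g := g3⁻¹ * x * g3) (by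
        rw [app_mul, app_mul, hx, app_inv_app])
      exact ⟨y, by show g3 * upB C y * g3⁻¹ = x; rw [hy]; group⟩
  have hconjLo : ((MulAut.conj g3).toMonoidHom.comp (loB C)).range = (δ.comp (loB C)).range := by
    ext x
    rw [sB]
    constructor
    · rintro ⟨y, rfl⟩
      show app C (g3 * loB C y * g3⁻¹) _ = _
      rw [app_mul, app_mul, app_inv_app, loB_fix]
    · intro hx
      obtain ⟨y, hy⟩ := exists_loB C (g := g3⁻¹ * x * g3) (by
        rw [app_mul, app_mul, hx, app_inv_app])
      exact ⟨y, by show g3 * loB C y * g3⁻¹ = x; rw [hy]; group⟩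
  have eV : (φ.comp w0).range = ψ.range := by
    rw [key, hψδ, range_comp_eq hinj0, MonoidHom.range_eq_top.2 (MulAut.conj g3).surjective]
    exact (MonoidHom.range_eq_top.2 (Finite.injective_iff_surjective.1 hδi)).symm
  have eA : ((φ.comp w0).comp (upB C)).range = A := by
    rw [← hψ.range_up, key, hψδ, MonoidHom.comp_assoc (upB C), MonoidHom.comp_assoc (upB C) δ,
      range_comp_eq hinj0, hconjUp]
  have eB : ((φ.comp w0).comp (loB C)).range = B := by
    rw [← hψ.range_lo, key, hψδ, MonoidHom.comp_assoc (loB C), MonoidHom.comp_assoc (loB C) δ,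
      range_comp_eq hinj0, hconjLo]
  -- the second window
  obtain ⟨j', hj'⟩ := exists_lift hφi ψ' (hφr ▸ hsup ▸ le_sup_right)
  have hj'i : Function.Injective j' := fun a b h => hi' (by rw [← hj']; exact congrArg φ h)
  obtain ⟨u', hu', hstab'⟩ := exists_stab_range_four hq hj'i
  have hB1 : (j'.comp (upB C)).range = (w0.comp (loB C)).range := by
    rw [← range_comp_eq hφi, ← MonoidHom.comp_assoc, hj', hψ'.range_up, ← MonoidHom.comp_assoc, eB]
  obtain ⟨t, ht, -, -, -, ht1⟩ := exists_omega hq
  have hfix : app C (w0 (loB C (suTwo C t 0 (nm_torus C ht)))) u' = u' := by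
    obtain ⟨y, hy⟩ : w0 (loB C (suTwo C t 0 (nm_torus C ht))) ∈ (j'.comp (upB C)).range := hB1 ▸ ⟨_, rfl⟩
    rw [← hy]; exact (hstab' _).1 ⟨_, rfl⟩
  rw [app_w0, app_loB, app_suTwo] at hfix
  have q1 := congrFun hfix 1
  have q2 := congrFun hfix 2
  simp at q1 q2
  have ht' : C.σ t ≠ 1 := fun h => ht1 (C.σ.injective (by rw [h, map_one]))
  have v1 : u' 1 = 0 := (mul_eq_zero.1 (show (t - 1) * u' 1 = 0 by linear_combination q1)).resolve_left
    (sub_ne_zero.2 ht1)
  have v2 : u' 2 = 0 := (mul_eq_zero.1 (show (C.σ t - 1) * u' 2 = 0 by linear_combination q2)).resolve_left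
    (sub_ne_zero.2 ht')
  have hn' : nm C (u' 0) + nm C (u' 3) = 1 := by
    rw [← hu']; simp [herm, Fin.sum_univ_four, nm, v1, v2]
  have hu3 : u' 3 = 0 := by
    by_contra h3
    have h30 : u' 0 = 0 := (nm_eq_zero C).1 (by rw [nm_eq_one hq h3] at hn'; linear_combination hn')
    have hu'' : u' = u' 3 • basv 4 3 := by
      funext i; fin_cases i <;> simp [basv, h30, v1, v2]
    let K : Subgroup (suG C (Fin 4)) :=
      { carrier := {g | app C g (basv 4 3) = basv 4 3}
        mul_mem' := fun {g g'} h h' => by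
          show app C (g * g') (basv 4 3) = basv 4 3
          rw [app_mul, h', h]
        one_mem' := app_one C _
        inv_mem' := fun {g} h => by
          show app C g⁻¹ (basv 4 3) = basv 4 3
          conv_lhs => rw [← h, app_inv_app] }
    have hle : φ.range ≤ K.map φ := by
      rw [hφr, ← hsup, ← eV, ← hj', MonoidHom.range_comp, MonoidHom.range_comp]
      refine sup_le (Subgroup.map_mono ?_) (Subgroup.map_mono ?_)
      · rintro _ ⟨y, rfl⟩; exact w0_fix y
      · intro x hx
        have := (hstab' x).1 hx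
        rw [hu'', app_smul] at this
        exact smul_right_injective _ h3 this
    obtain ⟨k, hk, e⟩ := hle ⟨w1 (loB C (suTwo C 0 1 (nm_swap hq (nm_one C)))), rfl⟩
    have hkk : app C (w1 (loB C (suTwo C 0 1 (nm_swap hq (nm_one C))))) (basv 4 3) = basv 4 3 :=
      hφi e ▸ hk
    rw [app_w1, app_loB, app_suTwo] at hkk
    have := congrFun hkk 3
    simp [basv] at this
  have h00 : u' 0 ≠ 0 := fun h => by
    rw [h, hu3, nm_zero, add_zero] at hn'; exact zero_ne_one hn'
  have hu'' : u' = u' 0 • basv 4 0 := by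
    funext i; fin_cases i <;> simp [basv, hu3, v1, v2]
  have hj'r : j'.range = (w1 (C := C)).range := by
    ext x
    rw [hstab', hu'', app_smul, (smul_right_injective _ h00).eq_iff]
    exact ⟨fun hx => exists_w1 hx, by rintro ⟨y, rfl⟩; exact w1_fix y⟩
  have eV' : (φ.comp w1).range = ψ'.range := by
    rw [← hj', range_comp_eq hφi, hj'r]
  obtain ⟨δ', hδ'⟩ := exists_lift w1_injective j' hj'r.le
  have hδ'i : Function.Injective δ' := fun a b e => hj'i (by
    simp only [← hδ', MonoidHom.comp_apply, e])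
  obtain ⟨g', sA', sB'⟩ := exists_std_three hq hδ'i
  have hup : (δ'.comp (upB C)).range = (upB C).range := by
    rw [← range_comp_eq (w1_injective (C := C)), ← MonoidHom.comp_assoc, hδ', hB1]
    congr 1
    refine MonoidHom.ext fun y => ?_
    show w0 (loB C y) = w1 (upB C y)
    rw [w0, w1, loB, upB, wext_wext, wext_wext]
  have e2' : ∀ y, app C (upB C y) (app C g' (basv 3 2)) = app C g' (basv 3 2) := fun y =>
    (sA' _).1 (hup ▸ ⟨y, rfl⟩)
  have q := e2' (suTwo C t 0 (nm_torus C ht))
  rw [app_upB, app_suTwo] at q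
  have r0 := congrFun q 0
  have r1 := congrFun q 1
  simp at r0 r1
  set p2 := app C g' (basv 3 2)
  set p0 := app C g' (basv 3 0) with hp0
  have p20 : p2 0 = 0 := (mul_eq_zero.1 (show (t - 1) * p2 0 = 0 by linear_combination r0)).resolve_left
    (sub_ne_zero.2 ht1)
  have p21 : p2 1 = 0 := (mul_eq_zero.1 (show (C.σ t - 1) * p2 1 = 0 by linear_combination r1)).resolve_left
    (sub_ne_zero.2 ht')
  have p22 : p2 2 ≠ 0 := fun h => by
    have := herm_app C g' (basv 3 2) (basv 3 2)
    rw [herm_basv_self C (by omega)] at this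
    change herm C p2 p2 = 1 at this
    simp [herm, Fin.sum_univ_three, p20, p21, h] at this
  have p02 : p0 2 = 0 := by
    have := herm_app C g' (basv 3 0) (basv 3 2)
    rw [herm_basv_ne C (by omega) (by omega)] at this
    change herm C p0 p2 = 0 at this
    simp [herm, Fin.sum_univ_three, p20, p21] at this
    exact this.resolve_right p22
  have hpn : nm C (p0 0) + nm C (p0 1) = 1 := by
    have := herm_app C g' (basv 3 0) (basv 3 0)
    rw [herm_basv_self C (by omega), ← hp0] at this
    rw [← this]; simp [herm, Fin.sum_univ_three, nm, p02]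
  have hp01 : p0 1 = 0 := by
    by_contra h1
    have h10 : p0 0 = 0 := (nm_eq_zero C).1 (by rw [nm_eq_one hq h1] at hpn; linear_combination hpn)
    set n01 := suTwo C 0 1 (nm_swap hq (nm_one C)) with hn01
    set k := loB C n01 * upB C n01 * loB C n01 with hk
    have hkmem : k ∈ (δ'.comp (loB C)).range := by
      rw [sB', show p0 = p0 1 • basv 3 1 by funext i; fin_cases i <;> simp [basv, h10, p02], app_smul]
      congr 1
      rw [hk, hn01]
      simp only [app_mul, app_loB, app_upB, app_suTwo]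
      have h2 := two_eq_zero hq
      funext i; fin_cases i <;> simp [basv] <;> grind
    obtain ⟨y, hy⟩ := hkmem
    have hkD : φ (w1 k) ∈ D := by
      rw [← hψ'.range_lo, ← hj', ← hy]
      exact ⟨y, congrArg φ (DFunLike.congr_fun hδ' (loB C y)).symm⟩
    have hSA : φ (w0 (upB C n01)) ∈ A := eA ▸ ⟨n01, rfl⟩
    have hab : φ (w0 (upB C n01) * w1 k) = φ (w1 k * w0 (upB C n01)) := by
      rw [map_mul φ, map_mul φ]; exact (hc _ hSA _ hkD).eq
    have hcm := congrArg (fun g => app C g (basv 4 0) 1) (hφi hab)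
    simp [hk, hn01, app_mul, app_w0, app_w1, app_loB, app_upB, app_suTwo, basv] at hcm
  have h000 : p0 0 ≠ 0 := fun h => by
    rw [h, hp01, nm_zero, add_zero] at hpn; exact zero_ne_one hpn
  have hlo : (δ'.comp (loB C)).range = (loB C).range := by
    ext x
    rw [sB', show p0 = p0 0 • basv 3 0 by funext i; fin_cases i <;> simp [basv, hp01, p02], app_smul,
      (smul_right_injective _ h000).eq_iff]
    exact ⟨fun hx => exists_loB C hx, by rintro ⟨y, rfl⟩; exact loB_fix C y⟩
  refine ⟨φ, hφi, eV, eV', eA, eB, ?_⟩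
  rw [← hψ'.range_lo, ← hj', ← hδ', MonoidHom.comp_assoc (loB C) w1, MonoidHom.comp_assoc (loB C) (w1.comp δ') φ,
    range_comp_eq hφi, MonoidHom.comp_assoc (loB C) δ', range_comp_eq w1_injective, hlo]

end two

end CfsgLib.Phan.Two
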