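import Cfsg.Agent.Phan.Two.Cover
import Cfsg.Agent.Phan.Two.Four

/-!
# A chain of overlapping maps of `SU_4` over four elements gives a map of `SU_d`
-/

set_option autoImplicit false
set_option linter.unusedSectionVars false

namespace CfsgLib.Phan.Two

open CfsgLib.RepBounds.Unit Matrix

variable {F : Type*} [Field F] [Fintype F] {C : ConjField F} {G : Type*} [Group G] (hq : C.q = 2)
include hq

/-- An element commuting with all windows commutes with the image. -/
theorem commute_windows {d : ℕ} (hd : 3 ≤ d) (h : suG C (Fin d) →* G) (x : G)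
    (hx : ∀ (i : ℕ) (hi : i + 3 ≤ d) g, Commute x (h (wext C i hi g))) (y : suG C (Fin d)) :
    Commute x (h y) := by
  have hK := eq_top_of_windows hq hd ((Subgroup.centralizer {x}).comap h) fun i hi g => by
    rw [Subgroup.mem_comap, Subgroup.mem_centralizer_singleton_iff]
    exact (hx i hi g).eq.symm
  exact (Subgroup.mem_centralizer_singleton_iff.1
    (Subgroup.mem_comap.1 (hK ▸ Subgroup.mem_top y : y ∈ (Subgroup.centralizer {x}).comap h))).symm

/-- A chain of overlapping maps of `SU_4` with commuting distant members is induced by `SU_d`. -/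
theorem exists_chain_hom_two (d : ℕ) (hd : 4 ≤ d) :
    ∀ (ψ : ℕ → suG C (Fin 3) →* G) (φ : ℕ → suG C (Fin 4) →* G),
      (∀ i, i + 4 ≤ d → ∀ g, φ i (w0 g) = ψ i g ∧ φ i (w1 g) = ψ (i + 1) g) →
      (∀ i j, i + 2 ≤ j → j + 3 ≤ d → ∀ g x, Commute (ψ i (upB C g)) (ψ j x)) →
      (∀ i j, i + 2 ≤ j → j + 3 ≤ d → ∀ g x, Commute (ψ i x) (ψ j (loB C g))) →
      (∀ i j, i + 3 ≤ j → j + 3 ≤ d → ∀ x y, Commute (ψ i x) (ψ j y)) →
      ∃ f : suG C (Fin d) →* G, ∀ (i : ℕ) (hi : i + 3 ≤ d) (g : suG C (Fin 3)),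
        f (wext C i hi g) = ψ i g := by
  induction d, hd using Nat.le_induction with
  | base =>
    intro ψ φ hφ _ _ _
    refine ⟨φ 0, fun i hi g => ?_⟩
    rcases (show i = 0 ∨ i = 1 by omega) with rfl | rfl
    · exact (hφ 0 le_rfl g).1
    · exact (hφ 0 le_rfl g).2
  | succ k hk ih =>
    intro ψ φ hφ hA hB hC
    obtain ⟨h, hh⟩ := ih (fun i => ψ (i + 1)) (fun i => φ (i + 1))
      (fun i hi g => hφ (i + 1) (by omega) g)
      (fun i j hij hj g x => hA (i + 1) (j + 1) (by omega) (by omega) g x)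
      (fun i j hij hj g x => hB (i + 1) (j + 1) (by omega) (by omega) g x)
      (fun i j hij hj x y => hC (i + 1) (j + 1) (by omega) (by omega) x y)
    have agree1 : ∀ y, φ 0 (wext C 1 (by omega : 1 + 3 ≤ 4) y) =
        h (wext C 0 (by omega : 0 + 3 ≤ k) y) := fun y => by
      rw [hh 0 (by omega) y]
      exact (hφ 0 (by omega) y).2
    have e0 : ∀ x, φ 0 (wext C 0 (by omega : 0 + 3 ≤ 4) x) = ψ 0 x := fun x => (hφ 0 (by omega) x).1
    have commU : ∀ (g : suG C (Fin 2)) (y : suG C (Fin (k - 1))),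
        Commute (φ 0 (wext C 0 (by omega : 0 + 2 ≤ 4) g))
          (h (wext C 1 (by omega : 1 + (k - 1) ≤ k) y)) := fun g y => by
      rw [show φ 0 (wext C 0 (by omega : 0 + 2 ≤ 4) g) = ψ 0 (upB C g) by rw [← e0, upB, wext_wext]]
      refine commute_windows hq (by omega) (h.comp (wext C 1 (by omega : 1 + (k - 1) ≤ k))) _
        (fun i hi x => ?_) y
      rw [MonoidHom.comp_apply, wext_wext, hh (1 + i) (by omega) x]
      exact hA 0 (1 + i + 1) (by omega) (by omega) g x
    let S : StepData C G k := stepData hq h (φ 0) hk agree1 commU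
    have T : StepFour S :=
      { ψ4 := φ 0
        hk4 := hk
        agree0 := fun x => rfl
        agree1 := agree1 }
    have comm3 : ∀ (x : suG C (Fin 3)) (y : suG C (Fin (k - 2))),
        Commute (S.ψ x) (S.h (wext C 2 (by omega : 2 + (k - 2) ≤ k) y)) := by
      intro x
      show ∀ y, Commute (φ 0 (wext C 0 (by omega : 0 + 3 ≤ 4) x)) (h (wext C 2 _ y))
      rw [e0]
      rcases Nat.lt_or_ge k 5 with h4 | h5
      · obtain rfl : k = 4 := by omega
        intro y
        have e : wext C 2 (by omega : 2 + (4 - 2) ≤ 4) y = w1 (loB C y) := by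
          rw [w1, loB, wext_wext]
        rw [e, w1, hh 1 (by omega)]
        exact hB 0 2 le_rfl (by omega) y x
      · refine fun y => commute_windows hq (by omega) (h.comp (wext C 2 (by omega : 2 + (k - 2) ≤ k))) _
          (fun i hi z => ?_) y
        rw [MonoidHom.comp_apply, wext_wext, hh (2 + i) (by omega) z]
        exact hC 0 (2 + i + 1) (by omega) (by omega) x z
    obtain ⟨f, ft, f3⟩ := exists_hom_two hq T hk comm3
    refine ⟨f, fun i hi g => ?_⟩
    rcases Nat.eq_zero_or_pos i with rfl | hi0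
    · exact (f3 g).trans (e0 g)
    · rw [show wext C i hi g = wext C 1 StepData.le_tail (wext C (i - 1) (by omega : i - 1 + 3 ≤ k) g) by
        rw [wext_wext]; exact wext_congr C (by omega) _ g, ft]
      show h (wext C (i - 1) _ g) = _
      rw [hh (i - 1) (by omega) g, show i - 1 + 1 = i by omega]

end CfsgLib.Phan.Two
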