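import Cfsg.Agent.Phan.Two.Basic
import Cfsg.Agent.Phan.Three.CoverFour
import Cfsg.Agent.Phan.Glue

/-!
# The covering step over four elements
-/

set_option autoImplicit false
set_option linter.unusedSectionVars false

namespace CfsgLib.Phan.Two

open CfsgLib.RepBounds.Unit Matrix

variable {F : Type*} [Field F] [Fintype F] {C : ConjField F} (hq : C.q = 2)
include hq

/-- A subgroup containing all windows of three coordinates is everything. -/
theorem eq_top_of_windows {d : ℕ} (hd : 3 ≤ d) :
    ∀ (K : Subgroup (suG C (Fin d))), (∀ (i : ℕ) (hi : i + 3 ≤ d) g, wext C i hi g ∈ K) → K = ⊤ := by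
  induction d, hd using Nat.le_induction with
  | base =>
    intro K h
    refine (Subgroup.eq_top_iff' _).2 fun g => ?_
    rw [← wext_zero C (show 0 + 3 ≤ 3 by omega) g]
    exact h 0 _ g
  | succ k hk ih =>
    intro K h
    refine eq_top_of_tail hq hk K (fun y => ?_) (fun l => ?_)
    · have := ih (K.comap (wext C 1 (by omega : 1 + k ≤ k + 1))) fun i hi g => by
        rw [Subgroup.mem_comap, wext_wext]
        exact h _ _ g
      exact Subgroup.mem_comap.1 (this ▸ Subgroup.mem_top y)
    · have e := h 0 (by omega) (wext C 0 (by omega : 0 + 2 ≤ 3) l)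
      rwa [wext_wext] at e

variable {G : Type*} [Group G] {k : ℕ}

omit hq in
/-- The torus of the first block fixes the first line. -/
theorem app_torus_four {a : F} (ha : nm C a + nm C 0 = 1) :
    app C (wext C 0 (by omega : 0 + 2 ≤ 4) (suTwo C a 0 ha)) (basv 4 0) = a • basv 4 0 :=
  StepFour.app_torus ha

/-- The data of one step. -/
noncomputable def stepData (h : suG C (Fin k) →* G) (ψ4 : suG C (Fin 4) →* G) (hk : 4 ≤ k)
    (agree1 : ∀ y, ψ4 (wext C 1 (by omega : 1 + 3 ≤ 4) y) = h (wext C 0 (by omega : 0 + 3 ≤ k) y))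
    (commU : ∀ (g : suG C (Fin 2)) (y : suG C (Fin (k - 1))),
      Commute (ψ4 (wext C 0 (by omega : 0 + 2 ≤ 4) g)) (h (wext C 1 (by omega : 1 + (k - 1) ≤ k) y))) :
    StepData C G k where
  h := h
  ψ := ψ4.comp (wext C 0 (by omega : 0 + 3 ≤ 4))
  hk := by omega
  move hd _ hv := exists_move_two hq hd _ hv
  agree g := by
    have := agree1 (wext C 0 (by omega : 0 + 2 ≤ 3) g)
    simp only [wext_wext] at this
    rw [MonoidHom.comp_apply, wext_wext]
    exact this.symm
  comm g y := by
    rw [MonoidHom.comp_apply, wext_wext]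
    exact commU g y
  norm a ha y := by
    have h1k : 1 + k ≤ k + 1 := by omega
    have h02 : 0 + 2 ≤ k + 1 := by omega
    set tG := (ψ4.comp (wext C 0 (by omega : 0 + 3 ≤ 4))) (wext C 0 (by omega : 0 + 2 ≤ 3) (suTwo C a 0 ha))
      with htG
    set tS := wext C 0 h02 (suTwo C a 0 ha) with htS
    let tl : suG C (Fin k) →* G × suG C (Fin (k + 1)) := h.prod (wext C 1 h1k)
    let M : Subgroup (suG C (Fin k)) :=
      (tl.range.map (MulAut.conj ((tG, tS) : G × suG C (Fin (k + 1)))).toMonoidHom).comap tl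
    suffices hM : M = ⊤ by
      obtain ⟨z, ⟨y', rfl⟩, hy'⟩ : ∃ z ∈ tl.range,
          (MulAut.conj ((tG, tS) : G × suG C (Fin (k + 1)))).toMonoidHom z = tl y :=
        Subgroup.mem_map.1 (Subgroup.mem_comap.1 (hM ▸ Subgroup.mem_top y : y ∈ M))
      have e1 : tG * h y' * tG⁻¹ = h y := congrArg Prod.fst hy'
      have e2 : tS * wext C 1 h1k y' * tS⁻¹ = wext C 1 h1k y := congrArg Prod.snd hy'
      exact ⟨y', by rw [← e1]; group, by rw [← e2]; group⟩
    refine eq_top_of_windows hq (by omega) M fun i hi g => ?_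
    refine Subgroup.mem_comap.2 (Subgroup.mem_map.2 ?_)
    have ht4 : tG = ψ4 (wext C 0 (by omega : 0 + 2 ≤ 4) (suTwo C a 0 ha)) := by
      rw [htG, MonoidHom.comp_apply, wext_wext]
    rcases Nat.eq_zero_or_pos i with rfl | hi0
    · set t' : suG C (Fin 4) := wext C 0 (by omega : 0 + 2 ≤ 4) (suTwo C a 0 ha) with ht'
      have e : app C t' (basv 4 0) = a • basv 4 0 := app_torus_four ha
      obtain ⟨g', hg'⟩ := exists_tail C (k := 3) (by omega)
        (g := t'⁻¹ * wext C 1 (by omega : 1 + 3 ≤ 4) g * t') (by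
          rw [app_mul, app_mul, e, app_smul, wext_basv_out C _ (Or.inl (by omega)), ← e, app_inv_app])
      have e' : t' * wext C 1 (by omega : 1 + 3 ≤ 4) g' * t'⁻¹ = wext C 1 (by omega : 1 + 3 ≤ 4) g := by
        rw [hg']; group
      refine ⟨_, ⟨wext C 0 (by omega) g', rfl⟩, Prod.ext ?_ ?_⟩
      · show tG * h _ * tG⁻¹ = h _
        rw [← agree1 g', ← agree1 g, ht4, ← map_inv, ← map_mul, ← map_mul, e']
      · show tS * wext C 1 h1k _ * tS⁻¹ = wext C 1 h1k _
        have e'' := congrArg (wext C 0 (by omega : 0 + 4 ≤ k + 1)) e'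
        rw [map_mul, map_mul, map_inv, ht', wext_wext, wext_wext, wext_wext] at e''
        rw [wext_wext, wext_wext, htS]
        exact e''
    · refine ⟨_, ⟨wext C i hi g, rfl⟩, Prod.ext ?_ ?_⟩
      · show tG * h _ * tG⁻¹ = h _
        rw [mul_inv_eq_iff_eq_mul, ht4]
        have := commU (suTwo C a 0 ha) (wext C (i - 1) (by omega : i - 1 + 3 ≤ k - 1) g)
        rw [wext_wext, wext_congr C (show 1 + (i - 1) = i by omega)] at this
        exact this
      · show tS * wext C 1 h1k _ * tS⁻¹ = wext C 1 h1k _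
        rw [mul_inv_eq_iff_eq_mul, wext_wext]
        exact commute_wext C _ _ (by omega) _ _

variable {S : StepData C G k} (T : StepFour S)

omit hq in
theorem k3_eq_k4 (x : suG C (Fin 3)) : S.k3 x = T.k4 (wext C 0 (by omega : 0 + 3 ≤ 4) x) := by
  refine Prod.ext (T.agree0 x).symm ?_
  show wext C 0 S.le_three x = wext C 0 T.le_four (wext C 0 _ x)
  rw [wext_wext]

include T in
theorem k4_mem (x : suG C (Fin 4)) : T.k4 x ∈ S.Gam := by
  have := eq_top_of_tail hq (k := 3) le_rfl (S.Gam.comap T.k4)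
    (fun y => by rw [Subgroup.mem_comap, T.k4_tail]; exact S.stab_le (S.tl_mem _))
    (fun l => by rw [Subgroup.mem_comap, T.k4_up]; exact S.up_mem _)
  exact Subgroup.mem_comap.1 (this ▸ Subgroup.mem_top x)

theorem exists_gam_two (g : suG C (Fin (k + 1))) : ∃ p ∈ S.Gam, p.2 = g := by
  have := eq_top_of_tail hq S.hk (S.Gam.map (MonoidHom.snd G (suG C (Fin (k + 1)))))
    (fun y => ⟨S.tl y, S.stab_le (S.tl_mem y), rfl⟩) (fun l => ⟨S.up l, S.up_mem l, S.up_snd l⟩)
  obtain ⟨p, hp, e⟩ : g ∈ S.Gam.map (MonoidHom.snd G (suG C (Fin (k + 1)))) := this ▸ Subgroup.mem_top g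
  exact ⟨p, hp, e⟩

/-- Every triangle is good. -/
theorem triLifts_two : S.TriLifts := by
  intro p q r _ hq1 hr hqr
  obtain ⟨g, g0, g1, g2⟩ := exists_frame_triple_two hq S.hk (S.herm_pv p) (S.herm_pv q) (S.herm_pv r)
    (herm_perp_comm C ((adj_iff hq).1 hq1.1)) (herm_perp_comm C ((adj_iff hq).1 hr.1))
    (herm_perp_comm C ((adj_iff hq).1 hqr))
  exact S.good_lift hq1 hr hqr ⟨g, g0 ▸ inW_basv C g (by omega), g1 ▸ inW_basv C g (by omega),
    g2 ▸ inW_basv C g (by omega)⟩

omit hq in
/-- The standard far point. -/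
def farPt (k : ℕ) : Fin (k + 1) → F := basv (k + 1) 0 + basv (k + 1) 1 + basv (k + 1) 2

/-- A far point is moved to the standard one by the tail. -/
theorem exists_normal (hk : 3 ≤ k) {u : Fin (k + 1) → F} (hu : herm C u u = 1)
    (hadj : ¬ Adj C (basv (k + 1) 0 : Fin (k + 1) → F) u)
    (hne : ∀ b : F, u ≠ b • basv (k + 1) 0) :
    ∃ (a : F) (y : suG C (Fin k)),
      u = a • app C (wext C 1 (by omega : 1 + k ≤ k + 1) y) (farPt k) := by
  have h2 := two_eq_zero hq
  have h1k : 1 + k ≤ k + 1 := by omega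
  obtain ⟨a, r, -, rfl, hr, hro, hrr⟩ := exists_radical C (herm_basv_self C (by omega)) hu hadj hne
  have hr0 : r 0 = 0 := by
    have := herm_basv_right C r (Nat.succ_pos k)
    rw [hro] at this
    exact this.symm
  set r' := r ∘ win (k + 1) 1 k h1k with hr'
  have hdec : r = extVec (win (k + 1) 1 k h1k) r' :=
    eq_extVec h1k r fun i hi => by rw [show i = 0 from Fin.ext (show (i : ℕ) = 0 by omega), hr0]
  have hr'0 : r' ≠ 0 := fun h => hr (by
    rw [hdec, h]; funext i
    by_cases hi : i ∈ Set.range (win (k + 1) 1 k h1k)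
    · obtain ⟨j, rfl⟩ := hi; rw [extVec_mem]; rfl
    · rw [extVec_not_mem _ _ hi]; rfl)
  have hrr' : herm C r' r' = 0 := by
    rw [← herm_extVec C (win (k + 1) 1 k h1k), ← hdec, hrr]
  obtain ⟨y0, hy0⟩ := exists_herm_eq C hr'0 1
  have hy0' : herm C r' y0 = 1 := by rw [← conj_herm, hy0, map_one]
  obtain ⟨c, hc⟩ := exists_isotropic C hrr' hy0'
  set s := y0 + c • r' with hs
  have hrs : herm C r' s = 1 := by
    rw [hs, herm_add_right, herm_smul_right, hrr', hy0', mul_zero, add_zero]
  obtain ⟨e, he⟩ := exists_unit_of_pair C hrr' hc hrs (one_ne_zero (α := F))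
  set f₁ := (1 : F) • s + e • r' with hf₁
  have hrf : herm C r' f₁ = 1 := by
    rw [hf₁, herm_add_right, herm_smul_right, herm_smul_right, hrr', hrs, map_one]; ring
  have hfr : herm C f₁ r' = 1 := by rw [← conj_herm, hrf, map_one]
  clear_value f₁
  obtain ⟨j, rfl⟩ : ∃ j, k = j + 1 := ⟨k - 1, by omega⟩
  obtain ⟨y, g0, g1⟩ := exists_frame_pair_two hq (k := j) (by omega) (f₀ := f₁) (f₁ := r' + f₁) he
    (by
      rw [herm_add_left, herm_add_right, herm_add_right, hrr', hrf, hfr, he]
      linear_combination h2)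
    (by rw [herm_add_left, hrf, he]; linear_combination h2)
  refine ⟨a, y, ?_⟩
  congr 1
  rw [farPt, app_add, app_add, wext_basv_out C h1k (Or.inl (by omega)),
    show (basv (j + 1 + 1) 1 : Fin _ → F) = basv _ (1 + 0) from rfl, wext_basv C h1k (by omega), g0,
    show (basv (j + 1 + 1) 2 : Fin _ → F) = basv _ (1 + 1) from rfl, wext_basv C h1k (by omega), g1,
    add_assoc (basv (j + 1 + 1) 0 : Fin (j + 1 + 1) → F)]
  congr 1
  rw [hdec]
  funext i
  by_cases hi : i ∈ Set.range (win (j + 1 + 1) 1 (j + 1) h1k)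
  · obtain ⟨l, rfl⟩ := hi
    rw [Pi.add_apply, extVec_mem, extVec_mem, extVec_mem, Pi.add_apply]
    linear_combination -(f₁ l) * h2
  · rw [Pi.add_apply, extVec_not_mem _ _ hi, extVec_not_mem _ _ hi, extVec_not_mem _ _ hi, add_zero]

variable (hk : 4 ≤ k) (comm3 : ∀ (x : suG C (Fin 3)) (y : suG C (Fin (k - 2))),
    Commute (S.ψ x) (S.h (wext C 2 (by omega : 2 + (k - 2) ≤ k) y)))

include hk T comm3 in
/-- A lift over the standard far point is unique. -/
theorem far_base {p q : G × suG C (Fin (k + 1))} {a : F} (e1 : S.Edge 1 q) (e2 : S.Edge q p)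
    (hp : S.pv p = a • farPt k) {x₀ : suG C (Fin 3)}
    (hx₀ : app C x₀ (basv 3 0) = ![1, 1, 1]) : S.Equ (S.k3 x₀) p := by
  have h2 := two_eq_zero hq
  have h3k : 3 + (k - 2) ≤ k + 1 := by omega
  have h2k : 2 + (k - 2) ≤ k := by omega
  set P := S.k3 x₀ with hP
  have hPpv : S.pv P = farPt k := by
    show app C (wext C 0 S.le_three x₀) (basv (k + 1) (0 + 0)) = _
    rw [wext_basv C _ (by omega), hx₀]
    funext i
    by_cases hi : i ∈ Set.range (win (k + 1) 0 3 S.le_three)
    · obtain ⟨j, rfl⟩ := hi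
      rw [extVec_mem]
      fin_cases j <;> simp [farPt, basv, win_apply]
    · rw [extVec_not_mem _ _ hi]
      rw [mem_range_win] at hi
      simp [farPt, basv, show ¬ (i : ℕ) = 0 by omega, show ¬ (i : ℕ) = 1 by omega,
        show ¬ (i : ℕ) = 2 by omega]
  obtain ⟨x₃, hx₃⟩ := exists_move_two hq (d := 4) (by omega) (basv 4 3) (herm_basv_self C (by omega))
  have hq3 : S.pv (T.k4 x₃) = basv (k + 1) 3 := by
    show app C (wext C 0 T.le_four x₃) (basv (k + 1) (0 + 0)) = _
    rw [wext_basv C _ (by omega), hx₃, extVec_basv _ (by omega)]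
  have hfar : ∀ i, 3 ≤ i → i < k + 1 → herm C (farPt (F := F) k) (basv (k + 1) i) = 0 := fun i h3 hi => by
    rw [farPt, herm_add_left, herm_add_left, herm_basv_ne C hi (by omega), herm_basv_ne C hi (by omega),
      herm_basv_ne C hi (by omega), add_zero, add_zero]
  have eq3 : S.Edge 1 (T.k4 x₃) := T.edge_k4_base (by
    rw [hq3]; exact adj_of_perp C (herm_basv_ne C (by omega) (by omega)))
  have eP : S.Edge (T.k4 x₃) P := by
    have hadj : Adj C S.e₀ (S.pv (T.k4 (x₃⁻¹ * wext C 0 (by omega : 0 + 3 ≤ 4) x₀))) := by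
      rw [← S.pv_one, ← S.adj_translate (T.k4 x₃), mul_one, ← map_mul, mul_inv_cancel_left,
        ← k3_eq_k4, ← hP, hq3, hPpv]
      exact adj_of_perp C (herm_perp_comm C (hfar 3 le_rfl (by omega)))
    have := (T.edge_k4_base hadj).mul_left (T.k4 x₃)
    rwa [mul_one, ← map_mul, mul_inv_cancel_left, ← k3_eq_k4] at this
  -- neighbours supported on the far coordinates
  have key : ∀ (y : suG C (Fin (k - 2))) (qz : G × suG C (Fin (k + 1))), S.Edge 1 qz →
      S.pv qz = app C (wext C 3 h3k y) (basv (k + 1) 3) → S.Edge qz P := by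
    intro y qz hqz hz
    set Z := S.tl (wext C 2 h2k y) with hZ
    have hZ1 : S.Equ 1 Z := by
      show (1 : G × suG C (Fin (k + 1)))⁻¹ * Z ∈ S.stab
      rw [inv_one, one_mul]
      exact S.tl_mem _
    have hE : S.Edge 1 (Z * T.k4 x₃) := by
      have := eq3.mul_left Z
      rw [mul_one] at this
      exact this.congr_left hZ1.symm
    have hZP : Commute Z P := by
      refine Prod.ext (comm3 x₀ y).symm.eq ?_
      show wext C 1 StepData.le_tail (wext C 2 h2k y) * wext C 0 S.le_three x₀ =
        wext C 0 S.le_three x₀ * wext C 1 StepData.le_tail (wext C 2 h2k y)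
      rw [wext_wext]
      exact (commute_wext C _ _ (by omega) _ _).symm.eq
    have hEP : S.Edge (Z * T.k4 x₃) P := by
      refine (eP.mul_left Z).congr_right ?_
      show (Z * P)⁻¹ * P ∈ S.stab
      rw [hZP.eq, _root_.mul_inv_rev, mul_assoc, inv_mul_cancel, mul_one]
      exact inv_mem (S.tl_mem _)
    refine hEP.congr_left (S.edge_unique hE hqz (a := 1) ?_)
    rw [one_smul, hz, S.pv_mul, hq3]
    show app C (wext C 3 h3k y) _ = app C (wext C 1 StepData.le_tail (wext C 2 h2k y)) _
    rw [wext_wext]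
  -- the given neighbour
  set x := S.pv q with hx
  have hx0 : herm C x (basv (k + 1) 0) = 0 := by
    have := (adj_iff hq).1 e1.1
    rw [S.pv_one] at this
    exact herm_perp_comm C this
  have ha0 : a ≠ 0 := fun h => by
    have := S.herm_pv p
    rw [hp, h, zero_smul, herm_zero_left] at this
    exact zero_ne_one this
  have hxf : herm C x (farPt k) = 0 := by
    have := (adj_iff hq).1 e2.1
    rw [hp, herm_smul_right] at this
    exact (mul_eq_zero.1 this).resolve_left ((map_ne_zero C.σ).2 ha0)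
  set xw := fun i : Fin (k + 1) => if (i : ℕ) < 3 then 0 else x i with hxw
  have c0 : x ⟨0, by omega⟩ = 0 := by rw [← herm_basv_right C x (by omega : 0 < k + 1), hx0]
  have c12 : x ⟨1, by omega⟩ + x ⟨2, by omega⟩ = 0 := by
    rw [farPt, herm_add_right, herm_add_right, hx0, herm_basv_right C x (by omega : 1 < k + 1),
      herm_basv_right C x (by omega : 2 < k + 1), zero_add] at hxf
    exact hxf
  have hdec : x = x ⟨1, by omega⟩ • (basv (k + 1) 1 + basv (k + 1) 2) + xw := by
    funext i
    rcases (show (i : ℕ) = 0 ∨ (i : ℕ) = 1 ∨ (i : ℕ) = 2 ∨ 3 ≤ (i : ℕ) by omega) with h | h | h | h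
    · rw [show i = ⟨0, by omega⟩ from Fin.ext h, c0]; simp [basv, hxw]
    · rw [show i = ⟨1, by omega⟩ from Fin.ext h]; simp [basv, hxw]
    · rw [show i = ⟨2, by omega⟩ from Fin.ext h]
      simp [basv, hxw]
      linear_combination c12 - (x ⟨1, by omega⟩) * h2
    · simp [basv, hxw, show ¬ (i : ℕ) < 3 by omega, show ¬ (i : ℕ) = 1 by omega,
        show ¬ (i : ℕ) = 2 by omega]
  have hw12 : ∀ i, i < 3 → ∀ hi : i < k + 1, herm C xw (basv (k + 1) i) = 0 := fun i h hi => by
    rw [herm_basv_right C xw hi]; simp [hxw, h]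
  have hxwn : herm C xw xw = 1 := by
    have e : herm C x x = 1 := S.herm_pv q
    rw [hdec] at e
    simp only [herm_add_left, herm_add_right, herm_smul_left, herm_smul_right, hw12 1 (by omega) (by omega),
      hw12 2 (by omega) (by omega), herm_perp_comm C (hw12 1 (by omega) (by omega)),
      herm_perp_comm C (hw12 2 (by omega) (by omega)),
      herm_basv_self C (show 1 < k + 1 by omega), herm_basv_self C (show 2 < k + 1 by omega),
      herm_basv_ne C (show 2 < k + 1 by omega) (show (1 : ℕ) ≠ 2 by omega),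
      herm_basv_ne C (show 1 < k + 1 by omega) (show (2 : ℕ) ≠ 1 by omega)] at e
    linear_combination e - (x ⟨1, by omega⟩ * C.σ (x ⟨1, by omega⟩)) * h2
  have hwdec : xw = extVec (win (k + 1) 3 (k - 2) h3k) (xw ∘ win (k + 1) 3 (k - 2) h3k) :=
    eq_extVec h3k xw fun i hi => by simp [hxw, show (i : ℕ) < 3 by omega]
  obtain ⟨y, hy⟩ := exists_move_two hq (d := k - 2) (by omega) (xw ∘ win (k + 1) 3 (k - 2) h3k)
    (by rw [← herm_extVec C (win (k + 1) 3 (k - 2) h3k), ← hwdec]; exact hxwn)
  have hy3 : app C (wext C 3 h3k y) (basv (k + 1) (3 + 0)) = xw := by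
    rw [wext_basv C h3k (by omega), hy, ← hwdec]
  obtain ⟨s, hs⟩ : ∃ s : suG C (Fin (k - 2)), app C s (basv (k - 2) 0) = basv (k - 2) 1 :=
    exists_move_two hq (by omega) _ (herm_basv_self C (by omega))
  set z := app C (wext C 3 h3k (y * s)) (basv (k + 1) 3) with hz
  have hz' : z = app C (wext C 3 h3k y) (basv (k + 1) (3 + 1)) := by
    rw [hz, map_mul, app_mul, show (basv (k + 1) 3 : Fin (k + 1) → F) = basv _ (3 + 0) from rfl,
      wext_basv C h3k (by omega), hs, extVec_basv h3k (by omega)]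
  have hzl : ∀ i, i < 3 → herm C z (basv (k + 1) i) = 0 := fun i h => by
    rw [hz', ← wext_basv_out C h3k (Or.inl h) y, herm_app, herm_basv_ne C (by omega) (by omega)]
  have hzn : herm C z z = 1 := by rw [hz, herm_app, herm_basv_self C (by omega)]
  have hzx : herm C z x = 0 := by
    rw [hdec, herm_add_right, herm_smul_right, herm_add_right, hzl 1 (by omega), hzl 2 (by omega),
      hz', ← hy3, herm_app, herm_basv_ne C (by omega) (by omega)]
    ring
  obtain ⟨qz, hqz, ez, hqzv⟩ := S.exists_edge (one_mem _) hzn (by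
    rw [S.pv_one]; exact adj_of_perp C (herm_perp_comm C (hzl 0 (by omega))))
  have ezP : S.Edge qz P := key (y * s) qz ez hqzv
  have ezq : S.Edge qz q := triLifts_two hq 1 qz q (one_mem _) ez e1 (by
    rw [hqzv]; exact adj_of_perp C hzx)
  have eqP : S.Edge q P := triLifts_two hq qz q P hqz ezq ezP (by
    rw [hPpv]; exact adj_of_perp C hxf)
  exact S.edge_unique eqP e2 (a := a) (by rw [hp, hPpv])

include T hk comm3 in
theorem covers_two : S.Covers := by
  refine ⟨triLifts_two hq, ?_, ?_⟩
  · intro p p' q q' a _ _ e1 e2 e1' e2' hadj hb h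
    obtain ⟨b, y, hu⟩ := exists_normal hq S.hk (S.herm_pv p) hadj hb
    obtain ⟨x₀, hx₀⟩ := exists_full hq (nm_one C) (nm_one C) (nm_one C)
    set d := S.tl y with hd
    have hpull : ∀ {p q : G × suG C (Fin (k + 1))} {b : F}, S.Edge 1 q → S.Edge q p →
        S.pv p = b • app C d.2 (farPt k) → S.Equ (S.k3 x₀) (d⁻¹ * p) := by
      intro p q b e1 e2 hb
      refine far_base hq T hk comm3 ((e1.mul_left d⁻¹).congr_left ?_) (e2.mul_left d⁻¹) (a := b) ?_ hx₀
      · show (d⁻¹ * 1)⁻¹ * 1 ∈ S.stab
        rw [mul_one, mul_one, inv_inv]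
        exact S.tl_mem y
      · rw [S.pv_mul, hb, app_smul]
        show b • app C (d.2)⁻¹ _ = _
        rw [app_inv_app]
    have h1 := hpull e1 e2 (b := b) hu
    have h2 := hpull e1' e2' (b := a * b) (by rw [h, hu, smul_smul]; rfl)
    have := (h1.symm.trans h2).mul_left d
    rwa [mul_inv_cancel_left, mul_inv_cancel_left] at this
  · intro u w hu hw hou hune how hwne huw
    have ho : herm C S.e₀ S.e₀ = 1 := by rw [← S.pv_one]; exact S.herm_pv 1
    obtain ⟨b, y, hy⟩ := exists_normal hq S.hk hu hou hune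
    obtain ⟨a, r, ha, hru, hr, hro, hrr⟩ := exists_radical C ho hu hou hune
    obtain ⟨a', r', ha', hrw, hr', hro', hrr'⟩ := exists_radical C ho hw how hwne
    have hrr2 : herm C r r' ≠ 0 := by
      intro h
      rw [hru, hrw, adj_smul_left C ha, adj_smul_right C ha'] at huw
      refine huw ?_
      rw [herm_add_left, herm_add_right, herm_add_right, ho, herm_perp_comm C hro', hro, h]
      simp [nm_one]
    set x0 := app C (wext C 1 StepData.le_tail y) (basv (k + 1) 3) with hx0
    have hx0n : herm C x0 x0 = 1 := by rw [hx0, herm_app, herm_basv_self C (by omega)]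
    have hx0o : herm C x0 S.e₀ = 0 := by
      show herm C x0 (basv (k + 1) 0) = 0
      rw [hx0, ← wext_basv_out C StepData.le_tail (Or.inl (show 0 < 1 by omega)) y, herm_app,
        herm_basv_ne C (by omega) (by omega)]
    have hx0u : herm C x0 u = 0 := by
      rw [hy, herm_smul_right, hx0]
      show _ * herm C _ (app C (wext C 1 StepData.le_tail y) _) = 0
      rw [herm_app, farPt, herm_add_right, herm_add_right, herm_basv_ne C (by omega) (by omega),
        herm_basv_ne C (by omega) (by omega), herm_basv_ne C (by omega) (by omega)]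
      ring
    have hx0r : herm C x0 r = 0 := by
      rw [hru, herm_smul_right, herm_add_right, hx0o, zero_add] at hx0u
      exact (mul_eq_zero.1 hx0u).resolve_left ((map_ne_zero C.σ).2 (ne_zero_of_nm C ha))
    set c := -herm C x0 r' / herm C r r' with hc
    set x := x0 + c • r with hx
    have hxo : herm C x S.e₀ = 0 := by
      rw [hx, herm_add_left, herm_smul_left, hx0o, hro, mul_zero, add_zero]
    have hxr : herm C x r = 0 := by
      rw [hx, herm_add_left, herm_smul_left, hx0r, hrr, mul_zero, add_zero]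
    have hxr' : herm C x r' = 0 := by
      rw [hx, herm_add_left, herm_smul_left, hc, div_mul_cancel₀ _ hrr2, add_neg_cancel]
    have hxx : herm C x x = 1 := by
      conv_lhs => rw [hx, herm_add_right, herm_smul_right, hxr, herm_add_left, herm_smul_left]
      rw [herm_perp_comm C hx0r, hx0n]
      ring
    refine ⟨x, hxx, adj_of_perp C (herm_perp_comm C hxo), adj_of_perp C ?_, adj_of_perp C ?_⟩
    · rw [hru, herm_smul_left, herm_add_left, herm_perp_comm C hxo, herm_perp_comm C hxr]; ring
    · rw [hrw, herm_smul_left, herm_add_left, herm_perp_comm C hxo, herm_perp_comm C hxr']; ring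

include T hk comm3 in
/-- The inductive step over four elements. -/
theorem exists_hom_two : ∃ f : suG C (Fin (k + 1)) →* G,
    (∀ y, f (wext C 1 StepData.le_tail y) = S.h y) ∧ ∀ x, f (wext C 0 S.le_three x) = S.ψ x :=
  S.exists_hom_of_covers (covers_two hq T hk comm3) (exists_gam_two hq)
    fun x => by rw [k3_eq_k4 T]; exact k4_mem hq T _

end CfsgLib.Phan.Two
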