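import Cfsg.Agent.Phan.Two.Basic
import Cfsg.Agent.Phan.FixedVector
import Cfsg.Agent.Phan.Glue

/-!
# `SU_3` over four elements: generation, rigidity and its copies in `SU_4`
-/

set_option autoImplicit false
set_option linter.unusedSectionVars false

namespace CfsgLib.Phan.Two

open CfsgLib.RepBounds.Unit Matrix

variable {F : Type*} [Field F] [Fintype F] {C : ConjField F} (hq : C.q = 2)
include hq

theorem eq_of_col {g g' : suG C (Fin 2)} (h : app C g (basv 2 0) = app C g' (basv 2 0)) : g = g' := by
  obtain ⟨h1, e1⟩ := eq_suTwo C g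
  obtain ⟨h2, e2⟩ := eq_suTwo C g'
  rw [e1, e2]
  exact suTwo_congr C h1 h2 (congrFun h 0) (congrFun h 1)

theorem nm_swap {b : F} (hb : nm C b = 1) : nm C (0 : F) + nm C b = 1 := by rw [nm_zero, zero_add, hb]

theorem swap_sq {b : F} (hb : nm C b = 1) :
    suTwo C 0 b (nm_swap hq hb) * suTwo C 0 b (nm_swap hq hb) = 1 := by
  refine eq_of_col hq ?_
  rw [app_mul, app_suTwo_zero, app_suTwo, app_one]
  funext i
  fin_cases i <;> simp [basv]
  have h2 := two_eq_zero hq
  simp only [nm] at hb
  linear_combination -hb - h2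

/-- An element of `SU_2` is a swap or a product of two. -/
theorem two_cases (g : suG C (Fin 2)) :
    (∃ (b : F) (hb : nm C b = 1), g = suTwo C 0 b (nm_swap hq hb)) ∨
      ∃ (a : F) (ha : nm C a = 1), g = suTwo C a 0 (nm_torus C ha) ∧
        g = suTwo C 0 (C.σ a) (nm_swap hq ((nm_conj C a).trans ha)) *
          suTwo C 0 1 (nm_swap hq (nm_one C)) := by
  obtain ⟨h, e⟩ := eq_suTwo C g
  set a := app C g (basv 2 0) 0 with hA
  set b := app C g (basv 2 0) 1 with hB
  rcases nm_cases hq a with ha | ha
  · left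
    have hb : nm C b = 1 := by rw [ha, nm_zero, zero_add] at h; exact h
    exact ⟨b, hb, e.trans (suTwo_congr C _ _ ha rfl)⟩
  · right
    have hb : b = 0 := (nm_eq_zero C).1 (by rw [ha] at h; linear_combination h)
    have he : g = suTwo C a 0 (nm_torus C ha) := e.trans (suTwo_congr C _ _ rfl hb)
    refine ⟨a, ha, he, ?_⟩
    refine eq_of_col hq ?_
    conv_lhs => rw [he]
    rw [app_mul, app_suTwo_zero, app_suTwo_zero, app_suTwo]
    funext i
    fin_cases i <;> simp [C.invol]
    linear_combination a * two_eq_zero hq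

/-- An element moving the first vector to a multiple of a basis vector is monomial. -/
theorem mem_of_weight_one (K : Subgroup (suG C (Fin 3))) (hu : ∀ l, upB C l ∈ K) (hl : ∀ l, loB C l ∈ K)
    {g : suG C (Fin 3)} {i : ℕ} (hi : i < 3) {t : F}
    (hg : app C g (basv 3 0) = t • basv 3 i) : g ∈ K := by
  have ht : nm C t = 1 := nm_of_unit_smul C (by rw [herm_app, herm_basv_self C (by omega)])
    (herm_basv_self C hi) hg
  obtain ⟨g', hg'K, hg'⟩ : ∃ g' ∈ K, app C g' (basv 3 0) = t • basv 3 i := by
    interval_cases i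
    · refine ⟨_, hu (suTwo C t 0 (nm_torus C ht)), ?_⟩
      rw [app_upB, app_suTwo]; funext j; fin_cases j <;> simp [basv]
    · refine ⟨_, hu (suTwo C 0 t (nm_swap hq ht)), ?_⟩
      rw [app_upB, app_suTwo]; funext j; fin_cases j <;> simp [basv]
    · refine ⟨_, K.mul_mem (hl (suTwo C 0 1 (nm_swap hq (nm_one C))))
        (hu (suTwo C 0 t (nm_swap hq ht))), ?_⟩
      rw [app_mul, app_upB, app_loB, app_suTwo, app_suTwo]; funext j; fin_cases j <;> simp [basv]
  obtain ⟨y, hy⟩ := exists_tail C (k := 2) (by omega) (g := g'⁻¹ * g) (by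
    rw [app_mul, hg, ← hg', app_inv_app])
  have := K.mul_mem hg'K (hl y)
  rwa [show loB C y = g'⁻¹ * g from hy, mul_inv_cancel_left] at this

/-- Blocks and one non-monomial element of each kind generate. -/
theorem eq_top_of_full (K : Subgroup (suG C (Fin 3))) (hu : ∀ l, upB C l ∈ K) (hl : ∀ l, loB C l ∈ K)
    (hM : ∀ c, nm C c = 1 → ∃ g ∈ K, app C g (basv 3 0) = ![1, 1, c]) : K = ⊤ := by
  refine (Subgroup.eq_top_iff' _).2 fun g => ?_
  set v := app C g (basv 3 0) with hv
  have hvv : nm C (v 0) + nm C (v 1) + nm C (v 2) = 1 := by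
    have := herm_app C g (basv 3 0) (basv 3 0)
    rw [herm_basv_self C (by omega), ← hv] at this
    rw [← this]; simp [herm, Fin.sum_univ_three, nm]
  have hw : ∀ {i : ℕ} (hi : i < 3), (∀ j : Fin 3, (j : ℕ) ≠ i → v j = 0) → g ∈ K := fun {i} hi h =>
    mem_of_weight_one hq K hu hl hi (t := v ⟨i, hi⟩) (by
      rw [← hv]; funext j
      by_cases hj : (j : ℕ) = i
      · subst hj; simp [basv]
      · simp [basv, hj, h j hj])
  have h1 : (1 : F) ≠ 0 := one_ne_zero
  have h2 := two_eq_zero hq
  rcases nm_cases hq (v 0) with a0 | a0 <;> rcases nm_cases hq (v 1) with a1 | a1 <;>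
    rcases nm_cases hq (v 2) with a2 | a2
  · rw [a0, a1, a2, nm_zero] at hvv; exact absurd (by linear_combination -hvv) h1
  · exact hw (i := 2) (by omega) fun j hj => by fin_cases j <;> first | assumption | simp at hj
  · exact hw (i := 1) (by omega) fun j hj => by fin_cases j <;> first | assumption | simp at hj
  · rw [a0, nm_zero, a1, a2] at hvv; exact absurd (by linear_combination -hvv + h2) h1
  · exact hw (i := 0) (by omega) fun j hj => by fin_cases j <;> first | assumption | simp at hj
  · rw [a0, a1, nm_zero, a2] at hvv; exact absurd (by linear_combination -hvv + h2) h1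
  · rw [a0, a1, a2, nm_zero] at hvv; exact absurd (by linear_combination -hvv + h2) h1
  · have hab : nm C (v 0 * v 1) = 1 := by rw [nm_mul, a0, a1, one_mul]
    have hc : nm C (v 0 * v 1 * v 2) = 1 := by rw [nm_mul, hab, a2, one_mul]
    obtain ⟨g', hg'K, hg'⟩ := hM _ hc
    set g'' := upB C (suTwo C (v 0) 0 (nm_torus C a0)) *
      (loB C (suTwo C (v 0 * v 1) 0 (nm_torus C hab)) * g') with hg''
    have e : app C g'' (basv 3 0) = v := by
      simp only [nm] at a0 a1
      rw [hg'', app_mul, app_mul, hg', app_loB, app_upB, app_suTwo, app_suTwo]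
      funext j
      fin_cases j <;> simp
      · linear_combination (v 1) * a0
      · linear_combination (v 2 * v 1 * C.σ (v 1)) * a0 + v 2 * a1
    obtain ⟨y, hy⟩ := exists_tail C (k := 2) (by omega) (g := g''⁻¹ * g) (by
      rw [app_mul, ← hv, ← e, app_inv_app])
    have hK : g'' ∈ K := K.mul_mem (hu _) (K.mul_mem (hl _) hg'K)
    have := K.mul_mem hK (hl y)
    rwa [show loB C y = g''⁻¹ * g from hy, mul_inv_cancel_left] at this

section elements

variable (w : F)

/-- The diagonal element `(1, ω, ω²)`. -/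
noncomputable def elA (hw : nm C w = 1) : suG C (Fin 3) := loB C (suTwo C w 0 (nm_torus C hw))

/-- The cyclic permutation. -/
noncomputable def elB : suG C (Fin 3) :=
  upB C (suTwo C 0 1 (nm_swap hq (nm_one C))) * loB C (suTwo C 0 1 (nm_swap hq (nm_one C)))

/-- The scalar of order three. -/
noncomputable def elZ (hw : nm C w = 1) : suG C (Fin 3) :=
  upB C (suTwo C w 0 (nm_torus C hw)) *
    loB C (suTwo C (w * w) 0 (nm_torus C (by rw [nm_mul, hw, one_mul])))

theorem app_elA (hw : nm C w = 1) (hs : C.σ w = w * w) (x : Fin 3 → F) :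
    app C (elA w hw) x = ![x 0, w * x 1, w * w * x 2] := by
  rw [elA, app_loB, app_suTwo]; funext i; fin_cases i <;> simp [hs]

theorem app_elB (x : Fin 3 → F) : app C (elB hq) x = ![x 2, x 0, x 1] := by
  rw [elB, app_mul, app_loB, app_upB, app_suTwo, app_suTwo]
  have h2 := two_eq_zero hq
  funext i
  fin_cases i <;> simp <;> grind

theorem app_elZ (hw : nm C w = 1) (hs : C.σ w = w * w) (h3 : w * (w * w) = 1) (x : Fin 3 → F) :
    app C (elZ w hw) x = w • x := by
  rw [elZ, app_mul, app_loB, app_upB, app_suTwo, app_suTwo]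
  funext i
  fin_cases i <;> simp [map_mul, hs] <;> grind

end elements

/-- An automorphism fixing both blocks pointwise is trivial. -/
theorem rigid {δ : suG C (Fin 3) →* suG C (Fin 3)} (hu : ∀ l, δ (upB C l) = upB C l)
    (hl : ∀ l, δ (loB C l) = loB C l) (g : suG C (Fin 3)) : δ g = g := by
  obtain ⟨w, hw, hs, hsum, h3, hw1⟩ := exists_omega hq
  have h2 := two_eq_zero hq
  set K := MonoidHom.eqLocus δ (MonoidHom.id _) with hK
  suffices h : K = ⊤ by exact (h ▸ Subgroup.mem_top g : g ∈ K)
  have hw1' : ∀ {i : ℕ}, i < 3 → ∀ {t : F} {n : suG C (Fin 3)},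
      app C n (basv 3 0) = t • basv 3 i → δ n = n := by
    intro i hi t n hn
    exact mem_of_weight_one hq K hu hl hi hn
  refine eq_top_of_full hq K hu hl fun c hc => ?_
  obtain ⟨M, hM⟩ := exists_full_app hq (nm_one C) (nm_one C) hc hs hsum h3
  simp only [one_mul] at hM
  have hM0 : app C M (basv 3 0) = ![1, 1, c] := by
    rw [hM]; funext i; fin_cases i <;> simp [basv]
  refine ⟨M, ?_, hM0⟩
  have hcd : c * C.σ c = 1 := hc
  have hMx : app C M ![1, 1, c] = basv 3 0 := by
    rw [hM]; funext i; fin_cases i <;> simp [basv]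
    · linear_combination hcd + h2
    · linear_combination (w * w) * hcd + hsum
    · right; linear_combination w * hcd + hsum
  have hinv : app C M⁻¹ (basv 3 0) = ![1, 1, c] := by
    conv_lhs => rw [← hMx, app_inv_app]
  have fa : δ (elA w hw) = elA w hw := hl _
  have fb : δ (elB hq) = elB hq := by rw [elB, map_mul, hu, hl]
  have conjA : δ (M * elA w hw * M⁻¹) = M * elA w hw * M⁻¹ := by
    refine hw1' (i := 2) (by omega) (t := c) ?_
    rw [app_mul, app_mul, hinv, app_elA hq w hw hs, hM]
    funext i; fin_cases i <;> simp [basv] <;> grind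
  have conjB : δ (M * elB hq * M⁻¹) = M * elB hq * M⁻¹ := by
    have hval : app C (M * elB hq * M⁻¹) (basv 3 0) =
        ![c + 1 + C.σ c, c + w + w * w * C.σ c, c * (c + w * w + w * C.σ c)] := by
      rw [app_mul, app_mul, hinv, app_elB hq, hM]
      funext i; fin_cases i <;> simp
    have hc3 : c = 1 ∨ c = w ∨ c = w * w := by
      have hcp : C.σ c = c * c := by rw [C.pow, hq, pow_two]
      rw [hcp] at hcd
      have : (c - 1) * ((c - w) * (c - w * w)) = 0 := by
        grind
      rcases mul_eq_zero.1 this with h | h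
      · exact Or.inl (sub_eq_zero.1 h)
      rcases mul_eq_zero.1 h with h | h
      · exact Or.inr (Or.inl (sub_eq_zero.1 h))
      · exact Or.inr (Or.inr (sub_eq_zero.1 h))
    rcases hc3 with rfl | rfl | rfl
    · refine hw1' (i := 0) (by omega) (t := 1) ?_
      rw [hval]; funext i; fin_cases i <;> simp [basv] <;> grind
    · refine hw1' (i := 1) (by omega) (t := c) ?_
      rw [hval]; funext i; fin_cases i <;> simp [basv, hs] <;> grind
    · refine hw1' (i := 2) (by omega) (t := w) ?_
      rw [hval]; funext i; fin_cases i <;> simp [basv, map_mul, hs] <;> grind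
  set k := M⁻¹ * δ M with hk
  have hcomm : ∀ n, δ n = n → δ (M * n * M⁻¹) = M * n * M⁻¹ → Commute k n := by
    intro n hn h
    rw [map_mul, map_mul, map_inv, hn, mul_inv_eq_iff_eq_mul] at h
    show M⁻¹ * δ M * n = n * (M⁻¹ * δ M)
    rw [mul_assoc, h]; group
  have hka := hcomm _ fa conjA
  have hkb := hcomm _ fb conjB
  -- the centraliser is scalar
  set v := app C k (basv 3 0) with hv
  have e0 : app C (elA w hw) v = v := by
    rw [hv, ← app_mul, ← hka.eq, app_mul, app_elA hq w hw hs]
    congr 1; funext i; fin_cases i <;> simp [basv]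
  rw [app_elA hq w hw hs] at e0
  have q1 := congrFun e0 1
  have q2 := congrFun e0 2
  simp at q1 q2
  have v1 : v 1 = 0 := (mul_eq_zero.1 (show (w - 1) * v 1 = 0 by linear_combination q1)).resolve_left
    (sub_ne_zero.2 hw1)
  have hww : w * w ≠ 1 := fun e => hw1 (by rw [e, mul_one] at h3; exact h3)
  have v2 : v 2 = 0 := (mul_eq_zero.1 (show (w * w - 1) * v 2 = 0 by linear_combination q2)).resolve_left
    (sub_ne_zero.2 hww)
  have k0 : app C k (basv 3 0) = v 0 • basv 3 0 := by
    rw [← hv]; funext i; fin_cases i <;> simp [basv, v1, v2]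
  have step : ∀ x y, app C (elB hq) x = y → app C k x = v 0 • x → app C k y = v 0 • y := by
    intro x y e hx
    rw [← e, ← app_mul, hkb.eq, app_mul, hx, app_smul]
  have b1 : app C (elB hq) (basv 3 0) = basv 3 1 := by
    rw [app_elB hq]; funext i; fin_cases i <;> simp [basv]
  have b2 : app C (elB hq) (basv 3 1) = basv 3 2 := by
    rw [app_elB hq]; funext i; fin_cases i <;> simp [basv]
  have hscal : ∀ x, app C k x = v 0 • x := by
    intro x
    have k1 := step _ _ b1 k0
    have k2 := step _ _ b2 k1
    have ex : x = x 0 • basv 3 0 + x 1 • basv 3 1 + x 2 • basv 3 2 := by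
      funext i; fin_cases i <;> simp [basv]
    rw [ex, app_add, app_add, app_smul, app_smul, app_smul, k0, k1, k2]
    module
  clear_value k
  have hkc : Commute k M := suG_ext C fun x => by rw [app_mul, app_mul, hscal, hscal, app_smul]
  have hM2 : δ (M * M) = M * M := by
    refine hw1' (i := 0) (by omega) (t := 1) ?_
    rw [app_mul, hM0, hMx, one_smul]
  have hkk : k * k = 1 := by
    have e : δ M = M * k := by rw [hk, mul_inv_cancel_left]
    rw [map_mul, e, hkc.mul_mul_mul_comm] at hM2
    · simpa using hM2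
  have ht : v 0 * v 0 = 1 := by
    have := congrArg (fun g => app C g (basv 3 0) 0) hkk
    simpa [app_mul, app_one, hscal, app_smul, basv, smul_smul] using this
  have ht1 : v 0 = 1 := by
    have : (v 0 - 1) * (v 0 - 1) = 0 := by linear_combination ht - (v 0 - 1) * h2
    exact sub_eq_zero.1 (mul_self_eq_zero.1 this)
  show δ M = M
  have hk1 : k = 1 := suG_ext C fun x => by rw [hscal, ht1, one_smul, app_one]
  rw [hk, inv_mul_eq_one] at hk1
  exact hk1.symm

section subspace

/-- A set of vectors closed under combinations with a non-orthogonal pair has a unit vector. -/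
theorem exists_unit_in {ι : Type*} [Fintype ι] (W : (ι → F) → Prop)
    (hW : ∀ (a : F) x y, W x → W y → W (x + a • y)) {r y : ι → F} (hr : W r) (hy : W y)
    (h : herm C r y = 1) : ∃ u, W u ∧ herm C u u = 1 := by
  have hu : ∀ u : ι → F, herm C u u ≠ 0 → herm C u u = 1 := fun u hu => by
    have h1 := nm_eq_one hq hu
    have hf := herm_self_fixed C u
    rw [nm, hf] at h1
    have h2 := two_eq_zero hq
    have : (herm C u u - 1) * (herm C u u - 1) = 0 := by
      linear_combination h1 - (herm C u u - 1) * h2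
    exact sub_eq_zero.1 (mul_self_eq_zero.1 this)
  by_cases hrr : herm C r r = 0
  swap
  · exact ⟨r, hr, hu r hrr⟩
  by_cases hyy : herm C y y = 0
  swap
  · exact ⟨y, hy, hu y hyy⟩
  obtain ⟨t, ht⟩ := exists_tr_eq C (c := (1 : F)) (map_one C.σ)
  refine ⟨y + t • r, hW t y r hy hr, ?_⟩
  simp only [herm_add_left, herm_add_right, herm_smul_left, herm_smul_right, hrr, hyy, h,
    show herm C y r = 1 by rw [← conj_herm, h, map_one]]
  linear_combination ht

end subspace

/-- Matrices of a Heisenberg pair leave a vector fixed. -/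
theorem heisenberg_fixed {w : F} (hsum : 1 + w + w * w = 0) (h3 : w * (w * w) = 1) (hw1 : w ≠ 1)
    {A B Z : Matrix (Fin 4) (Fin 4) F} (hA : A * (A * A) = 1) (hB : B * (B * B) = 1)
    (hZ : Z.det = 1) (hAZ : A * Z = Z * A) (hBZ : B * Z = Z * B) (hAB : A * B = Z * (B * A)) :
    1 + Z + Z * Z ≠ 0 := by
  intro h0
  have h2 := two_eq_zero hq
  have hw : w + w * w = 1 := by linear_combination hsum - h2
  set P := Z + (w * w) • (1 : Matrix (Fin 4) (Fin 4) F) with hP
  set Q := Z + w • (1 : Matrix (Fin 4) (Fin 4) F) with hQ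
  have hneg : ∀ X : Matrix (Fin 4) (Fin 4) F, X + X = 0 := fun X => by
    rw [← two_smul F X, h2, zero_smul]
  have hZZ : Z * Z = 1 + Z := by
    calc Z * Z = (1 + Z + Z * Z) + (1 + Z) := by
          rw [add_comm (1 + Z + Z * Z), ← add_assoc, hneg, zero_add]
      _ = 1 + Z := by rw [h0, zero_add]
  have hPQ : P + Q = 1 := by
    calc P + Q = (Z + Z) + (w * w + w) • (1 : Matrix (Fin 4) (Fin 4) F) := by
          rw [hP, hQ, add_smul]; abel
      _ = 1 := by rw [hneg, add_comm (w * w), hw, one_smul, zero_add]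
  have hPP : P * P = P := by
    rw [hP]
    simp only [add_mul, mul_add, smul_mul_assoc, mul_smul_comm, one_mul, mul_one, hZZ, smul_smul]
    match_scalars
    · linear_combination w * h3 + hsum - (w * w) * h2
    · linear_combination (w * w) * h2
  have hPQ0 : P * Q = 0 := by
    have := congrArg (P * ·) hPQ
    simp only [mul_add, hPP, mul_one] at this
    simpa using this
  have hQP : Q * P = 0 := by
    have := congrArg (· * P) hPQ
    simp only [add_mul, hPP, one_mul] at this
    simpa using this
  have hQQ : Q * Q = Q := by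
    have := congrArg (· * Q) hPQ
    simp only [add_mul, hPQ0, one_mul, zero_add] at this
    exact this
  have hZP : Z * P = w • P := by
    rw [hP]
    simp only [mul_add, mul_smul_comm, mul_one, hZZ, smul_add, smul_smul]
    match_scalars
    · linear_combination -h3
    · linear_combination hsum - w * h2
  have cP : ∀ {X : Matrix (Fin 4) (Fin 4) F}, X * Z = Z * X → X * P = P * X := fun {X} hX => by
    rw [hP, mul_add, add_mul, hX, mul_smul_comm, smul_mul_assoc, one_mul, mul_one]
  have cQ : ∀ {X : Matrix (Fin 4) (Fin 4) F}, X * Z = Z * X → X * Q = Q * X := fun {X} hX => by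
    rw [hQ, mul_add, add_mul, hX, mul_smul_comm, smul_mul_assoc, one_mul, mul_one]
  clear_value P Q
  have key : ∀ {X Y : Matrix (Fin 4) (Fin 4) F}, Y * Z = Z * Y →
      (X * P + Q) * (Y * P + Q) = X * Y * P + Q := fun {X Y} hY => by
    have e1 : X * P * (Y * P) = X * Y * P := by
      rw [mul_assoc, ← mul_assoc P, ← cP hY, mul_assoc Y, hPP, mul_assoc]
    have e2 : X * P * Q = 0 := by rw [mul_assoc, hPQ0, mul_zero]
    have e3 : Q * (Y * P) = 0 := by rw [← mul_assoc, ← cQ hY, mul_assoc, hQP, mul_zero]
    rw [add_mul, mul_add, mul_add, e1, e2, e3, hQQ, add_zero, zero_add]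
  set M := w • P + Q with hM
  have hAA : A * A * Z = Z * (A * A) := by rw [mul_assoc, hAZ, ← mul_assoc, hAZ, mul_assoc]
  have hBB : B * B * Z = Z * (B * B) := by rw [mul_assoc, hBZ, ← mul_assoc, hBZ, mul_assoc]
  have iA : (A * P + Q).det * (A * A * P + Q).det = 1 := by
    rw [← Matrix.det_mul, key hAA, hA, one_mul, hPQ, Matrix.det_one]
  have iB : (B * P + Q).det * (B * B * P + Q).det = 1 := by
    rw [← Matrix.det_mul, key hBB, hB, one_mul, hPQ, Matrix.det_one]
  have hBAZ : B * A * Z = Z * (B * A) := by rw [mul_assoc, hAZ, ← mul_assoc, hBZ, mul_assoc]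
  have hmain : (A * P + Q) * (B * P + Q) = M * ((B * P + Q) * (A * P + Q)) := by
    rw [key hBZ, key hAZ, hAB, hM,
      show w • P + Q = (w • (1 : Matrix (Fin 4) (Fin 4) F)) * P + Q by rw [smul_mul_assoc, one_mul],
      key hBAZ, smul_mul_assoc, one_mul, ← hBAZ, mul_assoc (B * A), hZP, mul_smul_comm, smul_mul_assoc]
  have hd := congrArg Matrix.det hmain
  rw [Matrix.det_mul, Matrix.det_mul, Matrix.det_mul] at hd
  have hM1 : M.det = 1 := by
    linear_combination (-(A * A * P + Q).det * (B * B * P + Q).det) * hd +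
      (1 - M.det) * (B * P + Q).det * (B * B * P + Q).det * iA + (1 - M.det) * iB
  have hZM : Z = (w * w) • (M * M) := by
    have hMM : M * M = (w * w) • P + Q := by
      rw [hM]
      simp only [add_mul, mul_add, smul_mul_assoc, mul_smul_comm, hPP, hPQ0, hQP, hQQ, smul_zero,
        smul_smul, add_zero, zero_add]
    rw [hMM, hP, hQ]
    simp only [smul_add, smul_smul]
    match_scalars <;> grind
  have hd2 := congrArg Matrix.det hZM
  rw [hZ, Matrix.det_smul, Matrix.det_mul, hM1, Fintype.card_fin, mul_one, mul_one] at hd2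
  exact hw1 (by grind)

/-- An injective image of `SU_3` in `SU_4` is a point stabiliser. -/
theorem exists_stab_range_four {j : suG C (Fin 3) →* suG C (Fin 4)} (hj : Function.Injective j) :
    ∃ u, herm C u u = 1 ∧ ∀ x, x ∈ j.range ↔ app C x u = u := by
  obtain ⟨w, hw, hs, hsum, h3, hw1⟩ := exists_omega hq
  have h2 := two_eq_zero hq
  set a := elA w hw with ha
  set b := elB hq with hb
  set z := elZ w hw with hz
  have hza : ∀ g, Commute g z := fun g => suG_ext C fun x => by
    rw [app_mul, app_mul, hz, app_elZ hq w hw hs h3, app_elZ hq w hw hs h3, app_smul]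
  have hab : a * b = z * (b * a) := suG_ext C fun x => by
    rw [app_mul, app_mul, app_mul, hz, app_elZ hq w hw hs h3, ha, hb, app_elA hq w hw hs,
      app_elB hq, app_elA hq w hw hs, app_elB hq]
    funext i
    fin_cases i <;> simp
    · linear_combination -(x 2) * h3
    · ring
  have ha3 : a * (a * a) = 1 := suG_ext C fun x => by
    rw [app_mul, app_mul, ha, app_elA hq w hw hs, app_elA hq w hw hs, app_elA hq w hw hs, app_one]
    funext i
    fin_cases i <;> simp
    · linear_combination (x 1) * h3
    · linear_combination (x 2 * (w * (w * w) + 1)) * h3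
  have hb3 : b * (b * b) = 1 := suG_ext C fun x => by
    rw [app_mul, app_mul, hb, app_elB hq, app_elB hq, app_elB hq, app_one]
    funext i
    fin_cases i <;> simp
  have hz3 : z * (z * z) = 1 := suG_ext C fun x => by
    rw [app_mul, app_mul, hz, app_elZ hq w hw hs h3, app_elZ hq w hw hs h3, app_elZ hq w hw hs h3,
      app_one, smul_smul, smul_smul, mul_assoc, h3, one_smul]
  have hz1 : z ≠ 1 := fun e => hw1 (by
    have := congrArg (fun g => app C g (basv 3 0) 0) e
    simpa [hz, app_elZ hq w hw hs h3, app_one, basv] using this)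
  set Z := j z with hZ
  have hne := heisenberg_fixed hq hsum h3 hw1 (A := (j a).1.1) (B := (j b).1.1) (Z := Z.1.1)
    (congrArg (fun g : suG C (Fin 4) => g.1.1) (show j a * (j a * j a) = 1 by
      rw [← map_mul, ← map_mul, ha3, map_one]))
    (congrArg (fun g : suG C (Fin 4) => g.1.1) (show j b * (j b * j b) = 1 by
      rw [← map_mul, ← map_mul, hb3, map_one]))
    Z.1.2
    (congrArg (fun g : suG C (Fin 4) => g.1.1) ((hza a).map j).eq)
    (congrArg (fun g : suG C (Fin 4) => g.1.1) ((hza b).map j).eq)
    (congrArg (fun g : suG C (Fin 4) => g.1.1) (show j a * j b = Z * (j b * j a) by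
      rw [hZ, ← map_mul, ← map_mul, ← map_mul, hab]))
  set W : (Fin 4 → F) → Prop := fun x => app C Z x = x with hWdef
  have hW : ∀ (t : F) x y, W x → W y → W (x + t • y) := fun t x y hx hy => by
    show app C Z _ = _
    rw [app_add, app_smul, show app C Z x = x from hx, show app C Z y = y from hy]
  have hZ3 : ∀ x, app C Z (app C Z (app C Z x)) = x := fun x => by
    rw [← app_mul, ← app_mul, hZ, ← map_mul, ← map_mul, mul_assoc, hz3, map_one, app_one]
  set pr : (Fin 4 → F) → (Fin 4 → F) := fun x => x + app C Z x + app C Z (app C Z x) with hpr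
  have hprW : ∀ x, W (pr x) := fun x => by
    show app C Z (x + app C Z x + app C Z (app C Z x)) = _
    rw [app_add, app_add, hZ3]
    simp only [hpr]; abel
  have hprh : ∀ r x, W r → herm C r (pr x) = herm C r x := fun r x hr => by
    have e : ∀ y, herm C r (app C Z y) = herm C r y := fun y => by
      conv_lhs => rw [← show app C Z r = r from hr, herm_app]
    simp only [hpr, herm_add_right, e]
    linear_combination (herm C r x) * h2
  obtain ⟨v0, hv0, hv0W⟩ : ∃ v, v ≠ 0 ∧ W v := by
    by_contra hall
    push Not at hall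
    refine hne (Matrix.ext_iff_mulVec.2 fun x => ?_)
    rw [Matrix.zero_mulVec, Matrix.add_mulVec, Matrix.add_mulVec, Matrix.one_mulVec,
      ← Matrix.mulVec_mulVec]
    by_contra h
    exact hall _ h (hprW x)
  obtain ⟨y0, hy0⟩ := exists_herm_right C hv0
  obtain ⟨u, huW, hu⟩ := exists_unit_in hq W hW hv0W (hprW y0) (by rw [hprh _ _ hv0W, hy0])
  -- the fixed space is a line
  have huniq : ∀ v, W v → herm C v v = 1 → herm C v u = 0 → False := by
    intro v hv hvv hvu
    obtain ⟨g, g0, g1⟩ := exists_frame_pair_two hq (k := 3) (by omega) hu hvv hvu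
    obtain ⟨y, hy⟩ := exists_tail C (k := 3) (by omega) (g := g⁻¹ * Z * g) (by
      rw [app_mul, app_mul, g0, show app C Z u = u from huW, ← g0, app_inv_app])
    have hy0 : app C y (basv 3 0) = basv 3 0 := by
      have e : app C (wext C 1 (by omega : 1 + 3 ≤ 4) y) (basv 4 (1 + 0)) = basv 4 (1 + 0) := by
        rw [hy]
        show app C _ (basv 4 1) = basv 4 1
        rw [app_mul, app_mul, g1, show app C Z v = v from hv, ← g1, app_inv_app]
      rw [wext_basv C _ (by omega)] at e
      have := congrArg (fun w => w ∘ win 4 1 3 (by omega)) e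
      simp only [extVec_comp] at this
      rw [this]; funext l; simp [basv, win_apply]
    obtain ⟨z0, hz0⟩ := exists_loB C hy0
    have hB : wext C 2 (by omega : 2 + 2 ≤ 4) z0 = g⁻¹ * Z * g := by
      rw [← hy, ← hz0, loB, wext_wext]
    rcases two_cases hq z0 with ⟨c, hc, e⟩ | ⟨c, hc, e, -⟩
    · have e2 : g⁻¹ * (Z * Z) * g = 1 := by
        rw [show g⁻¹ * (Z * Z) * g = g⁻¹ * Z * g * (g⁻¹ * Z * g) by group, ← hB, e, ← map_mul,
          swap_sq hq hc, map_one]
      have hZ2 : Z * Z = 1 := by
        rw [show Z * Z = g * (g⁻¹ * (Z * Z) * g) * g⁻¹ by group, e2, mul_one, mul_inv_cancel]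
      have : Z = 1 := by
        have e3 : Z * (Z * Z) = 1 := by rw [hZ, ← map_mul, ← map_mul, hz3, map_one]
        rwa [hZ2, mul_one] at e3
      exact hz1 (hj (this.trans (map_one j).symm))
    · have hc1 : c ≠ 1 := fun h => by
        have : z0 = 1 := by
          rw [e, suTwo_congr C _ (by rw [nm_one, nm_zero, add_zero]) h rfl, suTwo_one_torus]
        rw [this, map_one] at hB
        refine hz1 (hj ((show Z = 1 from ?_).trans (map_one j).symm))
        rw [show Z = g * (g⁻¹ * Z * g) * g⁻¹ by group, ← hB, mul_one, mul_inv_cancel]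
      have hcs : C.σ c ≠ c := fun h => hc1 (by
        rw [C.pow, hq, pow_two] at h
        exact mul_right_cancel₀ (ne_zero_of_nm C hc) (by rw [one_mul]; exact h))
      have hz'' : ∀ x, app C (g⁻¹ * Z * g) x = ![x 0, x 1, c * x 2, C.σ c * x 3] := by
        intro x
        rw [← hB, e]
        funext i
        fin_cases i
        · show app C (ext C _ _) x _ = _
          rw [app_ext_not_mem]
          · rfl
          · rw [mem_range_win]; simp
        · show app C (ext C _ _) x _ = _
          rw [app_ext_not_mem]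
          · rfl
          · rw [mem_range_win]; simp
        · show app C (ext C _ _) x (win 4 2 2 (by omega) 0) = _
          rw [app_ext_mem, show x ∘ win 4 2 2 (by omega) = ![x 2, x 3] by funext j; fin_cases j <;> rfl, app_suTwo]
          simp
        · show app C (ext C _ _) x (win 4 2 2 (by omega) 1) = _
          rw [app_ext_mem, show x ∘ win 4 2 2 (by omega) = ![x 2, x 3] by funext j; fin_cases j <;> rfl, app_suTwo]
          simp
      have hline : ∀ n, Commute n z → ∃ α : F, α ≠ 0 ∧
          app C (g⁻¹ * j n * g) (basv 4 2) = α • basv 4 2 := by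
        intro n hn
        set n' := g⁻¹ * j n * g with hn'
        have hcm : Commute n' (g⁻¹ * Z * g) := by
          show n' * (g⁻¹ * Z * g) = g⁻¹ * Z * g * n'
          have := (hn.map j).eq
          rw [hn', show g⁻¹ * j n * g * (g⁻¹ * Z * g) = g⁻¹ * (j n * j z) * g by rw [hZ]; group, this, hZ]
          group
        set x := app C n' (basv 4 2) with hx
        have e1 : app C (g⁻¹ * Z * g) x = c • x := by
          rw [hx, ← app_mul, ← hcm.eq, app_mul, hz'', ← app_smul]
          congr 1; funext i; fin_cases i <;> simp [basv]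
        rw [hz''] at e1
        have r0 := congrFun e1 0
        have r1 := congrFun e1 1
        have r3 := congrFun e1 3
        simp at r0 r1 r3
        have hcn : c - 1 ≠ 0 := sub_ne_zero.2 hc1
        have x0 : x 0 = 0 := (mul_eq_zero.1 (show (c - 1) * x 0 = 0 by linear_combination -r0)).resolve_left hcn
        have x1 : x 1 = 0 := (mul_eq_zero.1 (show (c - 1) * x 1 = 0 by linear_combination -r1)).resolve_left hcn
        have x3 : x 3 = 0 := (r3.resolve_left hcs)
        refine ⟨x 2, fun h0 => ?_, by funext i; fin_cases i <;> simp [basv, x0, x1, x3]⟩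
        have hh := herm_app C n' (basv 4 2) (basv 4 2)
        rw [herm_basv_self C (by omega), ← hx] at hh
        simp [herm, Fin.sum_univ_four, x0, x1, x3, h0] at hh
      obtain ⟨α, hα0, hα⟩ := hline a (hza a)
      obtain ⟨β, hβ0, hβ⟩ := hline b (hza b)
      have e1 : app C (g⁻¹ * j (a * b) * g) (basv 4 2) = (β * α) • basv 4 2 := by
        rw [map_mul, show g⁻¹ * (j a * j b) * g = g⁻¹ * j a * g * (g⁻¹ * j b * g) by group, app_mul,
          hβ, app_smul, hα, smul_smul]
      have e2 : app C (g⁻¹ * j (a * b) * g) (basv 4 2) = (α * β * c) • basv 4 2 := by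
        rw [hab, map_mul, map_mul, ← hZ, show g⁻¹ * (Z * (j b * j a)) * g =
          g⁻¹ * Z * g * (g⁻¹ * j b * g * (g⁻¹ * j a * g)) by group, app_mul C (g⁻¹ * Z * g), app_mul C (g⁻¹ * j b * g) (g⁻¹ * j a * g), hα, app_smul, hβ,
          smul_smul, app_smul, hz'']
        funext i; fin_cases i <;> simp [basv]
      have e3 := congrFun (e1.symm.trans e2) 2
      simp [basv] at e3
      refine hc1 (mul_left_cancel₀ (mul_ne_zero hα0 hβ0) ?_)
      linear_combination -e3
  have hfix : ∀ g, ∃ t : F, app C (j g) u = t • u := by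
    intro g
    set x := app C (j g) u with hx
    have hxW : W x := by
      show app C Z x = x
      rw [hx, hZ, ← app_mul, ← map_mul, ← (hza g).eq, map_mul, app_mul, ← hZ,
        show app C Z u = u from huW]
    refine ⟨herm C x u, ?_⟩
    by_contra hne'
    have hr : W (rem C u x) := by
      have := hW (-herm C x u) x u hxW huW
      rwa [neg_smul, ← sub_eq_add_neg] at this
    have hr0 : rem C u x ≠ 0 := sub_ne_zero.2 hne'
    obtain ⟨y1, hy1⟩ := exists_herm_right C hr0
    set y2 := rem C u (pr y1) with hy2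
    have hy2W : W y2 := by
      have := hW (-herm C (pr y1) u) (pr y1) u (hprW y1) huW
      rwa [neg_smul, ← sub_eq_add_neg] at this
    obtain ⟨v, ⟨hvW, hvu⟩, hv⟩ := exists_unit_in hq (fun x => W x ∧ herm C x u = 0)
      (fun t x y hx hy => ⟨hW t x y hx.1 hy.1, by
        rw [herm_add_left, herm_smul_left, hx.2, hy.2, mul_zero, add_zero]⟩)
      (r := rem C u x) (y := y2) ⟨hr, herm_rem C hu x⟩ ⟨hy2W, herm_rem C hu _⟩ (by
        rw [hy2]
        show herm C _ (pr y1 - herm C (pr y1) u • u) = 1
        rw [herm_sub_right, herm_smul_right, herm_rem C hu, mul_zero, sub_zero, hprh _ _ hr, hy1])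
    exact huniq v hvW hv hvu
  choose t ht using hfix
  have htn : ∀ g, nm C (t g) = 1 := fun g => nm_of_unit_smul C (by rw [herm_app, hu]) hu (ht g)
  have hu0 : u ≠ 0 := fun h => zero_ne_one (α := F) (by rw [← hu, h, herm_zero_left])
  let K : Subgroup (suG C (Fin 3)) :=
    { carrier := {g | app C (j g) u = u}
      mul_mem' := fun {g g'} h h' => by
        show app C (j (g * g')) u = u
        rw [map_mul, app_mul, h', h]
      one_mem' := by show app C (j 1) u = u; rw [map_one, app_one]
      inv_mem' := fun {g} h => by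
        show app C (j g⁻¹) u = u
        conv_lhs => rw [map_inv, ← h, app_inv_app] }
  have hsq : ∀ g, app C (j (g * g)) u = u → g ∈ K := by
    intro g hg
    rw [map_mul, app_mul, ht g, app_smul, ht g, smul_smul] at hg
    have h1 : t g * t g = 1 := smul_left_injective F hu0 (show (t g * t g) • u = (1 : F) • u by rw [hg, one_smul])
    have h1' : t g = 1 := by
      have : (t g - 1) * (t g - 1) = 0 := by linear_combination h1 - (t g - 1) * h2
      exact sub_eq_zero.1 (mul_self_eq_zero.1 this)
    show app C (j g) u = u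
    rw [ht g, h1', one_smul]
  have hblock : ∀ (f : suG C (Fin 2) →* suG C (Fin 3)) l, f l ∈ K := by
    intro f l
    have hswap : ∀ b (hb : nm C b = 1), f (suTwo C 0 b (nm_swap hq hb)) ∈ K := fun b hb =>
      hsq _ (by rw [← map_mul, swap_sq hq hb, map_one, map_one, app_one])
    rcases two_cases hq l with ⟨b, hb, e⟩ | ⟨c, hc, -, e⟩
    · rw [e]; exact hswap b hb
    · rw [e, map_mul]; exact K.mul_mem (hswap _ ((nm_conj C c).trans hc)) (hswap _ (nm_one C))
  have hKtop : K = ⊤ := eq_top_of_full hq K (hblock (upB C)) (hblock (loB C)) fun c hc => by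
    obtain ⟨M, hM⟩ := exists_full_app hq (nm_one C) (nm_one C) hc hs hsum h3
    simp only [one_mul] at hM
    have hM0 : app C M (basv 3 0) = ![1, 1, c] := by
      rw [hM]; funext i; fin_cases i <;> simp [basv]
    have hcd : c * C.σ c = 1 := hc
    refine ⟨M, hsq M ?_, hM0⟩
    exact mem_of_weight_one hq K (hblock (upB C)) (hblock (loB C)) (i := 0) (by omega) (t := 1) (by
      rw [app_mul, hM0, hM, one_smul]; funext i; fin_cases i <;> simp [basv]
      · linear_combination hcd + h2
      · linear_combination (w * w) * hcd + hsum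
      · right; linear_combination w * hcd + hsum)
  refine ⟨u, hu, fun x => ⟨?_, ?_⟩⟩
  · rintro ⟨g, rfl⟩
    exact (hKtop ▸ Subgroup.mem_top g : g ∈ K)
  · intro hx
    obtain ⟨g, hg⟩ := exists_move_two hq (d := 4) (by omega) u hu
    let f := (MulAut.conj g).toMonoidHom.comp (wext C 1 (by omega : 1 + 3 ≤ 4) : suG C (Fin 3) →* suG C (Fin 4))
    have hf : Function.Injective f := (MulAut.conj g).injective.comp (ext_injective C _)
    have hle : j.range ≤ f.range := by
      rintro _ ⟨g', rfl⟩
      obtain ⟨y, hy⟩ := exists_tail C (k := 3) (by omega) (g := g⁻¹ * j g' * g) (by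
        rw [app_mul, app_mul, hg, (hKtop ▸ Subgroup.mem_top g' : g' ∈ K), ← hg, app_inv_app])
      refine ⟨y, ?_⟩
      show g * wext C 1 _ y * g⁻¹ = _
      rw [hy]; group
    have heq : j.range = f.range := by
      refine Subgroup.eq_of_le_of_card_ge hle ?_
      rw [← Nat.card_congr (MonoidHom.ofInjective hj).toEquiv,
        ← Nat.card_congr (MonoidHom.ofInjective hf).toEquiv]
    rw [heq]
    obtain ⟨y, hy⟩ := exists_tail C (k := 3) (by omega) (g := g⁻¹ * x * g) (by
      rw [app_mul, app_mul, hg, hx, ← hg, app_inv_app])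
    refine ⟨y, ?_⟩
    show g * wext C 1 _ y * g⁻¹ = x
    rw [hy]; group

end CfsgLib.Phan.Two
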